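import Cfsg.Agent.Lib.Amalg.Syl

/-! Nonconnected `2`-groups: an isolated involution `t` and a normal four-group `⟨u, z⟩`. -/

set_option autoImplicit false
set_option linter.unusedSectionVars false
set_option linter.style.haveILetI false

namespace Cfsg.Lib.NC

open Subgroup Cfsg.Lib.Amalg

variable {P : Type*} [Group P]

def cn (g : P) : P →* P := (MulAut.conj g⁻¹).toMonoidHom

theorem cn_def (g x : P) : cn g x = g⁻¹ * x * g := by simp [cn]
theorem cn_cn (g h x : P) : cn h (cn g x) = cn (g * h) x := by simp only [cn_def]; group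
theorem cn_one (x : P) : cn 1 x = x := by simp [cn_def]
theorem cn_inj (g : P) : Function.Injective (cn g) := (MulAut.conj g⁻¹).injective
theorem cn_iff {g x : P} : cn g x = x ↔ Commute g x := by
  rw [cn_def, mul_assoc, inv_mul_eq_iff_eq_mul, eq_comm]; rfl
theorem cn_of {g x : P} (h : Commute g x) : cn g x = x := cn_iff.2 h
theorem cn_inv_cn (g x : P) : cn g⁻¹ (cn g x) = x := by rw [cn_cn, mul_inv_cancel, cn_one]
theorem cn_cn_inv (g x : P) : cn g (cn g⁻¹ x) = x := by rw [cn_cn, inv_mul_cancel, cn_one]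
theorem mul_cn (g x : P) : x * g = g * cn g x := by rw [cn_def]; group
theorem inv_of_sq {x : P} (h : x * x = 1) : x⁻¹ = x := inv_eq_of_mul_eq_one_right h

theorem pw2 [Finite P] (hP : IsPGroup 2 P) {a : P} (h : a ≠ 1) : ∃ j, a ^ 2 ^ j ≠ 1 ∧ a ^ 2 ^ j * a ^ 2 ^ j = 1 := by
  obtain ⟨k, hk⟩ := hP a
  induction k with
  | zero => exact absurd (by simpa using hk) h
  | succ k ih =>
    by_cases e : a ^ 2 ^ k = 1
    · exact ih e
    · exact ⟨k, e, by rw [← pow_add, ← two_mul, ← pow_succ', hk]⟩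

theorem pw4 [Finite P] (hP : IsPGroup 2 P) {a : P} (h : a * a ≠ 1) :
    ∃ j, a ^ 2 ^ j * a ^ 2 ^ j ≠ 1 ∧ a ^ 2 ^ j * a ^ 2 ^ j * (a ^ 2 ^ j * a ^ 2 ^ j) = 1 := by
  simpa only [(Commute.refl a).mul_pow] using pw2 hP h

theorem odd_gen [Finite P] (hP : IsPGroup 2 P) (a : P) {n : ℕ} (h : Odd n) : ∃ m, (a ^ n) ^ m = a := by
  obtain ⟨k, hk⟩ := hP a
  exact exists_pow_eq_self_of_coprime (Nat.Coprime.coprime_dvd_right (orderOf_dvd_of_pow_eq_one hk)
    (Nat.Coprime.pow_right k ((Nat.coprime_two_right).2 h)))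

/-- a set closed under powers with almost unique square roots lies in a cyclic group -/
theorem cyc [Finite P] (hP : IsPGroup 2 P) (z : P) (A : P → Prop) (h0 : A z) (z1 : z ≠ 1) (hp : ∀ a n, A a → A (a ^ (n : ℕ)))
    (h2 : ∀ a b, A a → A b → a * a = b * b → a = b ∨ a = b * z) : ∃ c, A c ∧ ∀ a, A a → ∃ n : ℕ, a = c ^ n := by
  obtain ⟨c, hc, hm⟩ := Set.exists_max_image {a | A a} orderOf (Set.toFinite _) ⟨z, h0⟩
  have c1 : c ≠ 1 := fun e => by
    have := hm z h0
    rw [e, orderOf_one] at this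
    exact z1 (orderOf_eq_one_iff.1 (le_antisymm this (orderOf_pos z)))
  obtain ⟨j, h3, h4⟩ := pw2 hP c1
  have hz : z = c ^ 2 ^ j := by
    have := (h2 _ _ (hp c _ hc) (hp c 0 hc) (by rw [h4]; simp)).resolve_left (by simpa using h3)
    rw [this]; simp
  refine ⟨c, hc, fun a ha => ?_⟩
  obtain ⟨k, hk⟩ := hP a
  induction k generalizing a with
  | zero => exact ⟨0, by simpa using hk⟩
  | succ k ih =>
    obtain ⟨n, hn⟩ := ih (a ^ 2) (hp a 2 ha) (by rw [← pow_mul, ← pow_succ', hk])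
    rcases Nat.even_or_odd n with ⟨m, rfl⟩ | ho
    · rcases h2 a (c ^ m) ha (hp c m hc) (by rw [← pow_add, ← hn, sq]) with e | e
      · exact ⟨m, e⟩
      · exact ⟨m + 2 ^ j, by rw [e, hz, pow_add]⟩
    · exfalso
      obtain ⟨m, hm'⟩ := odd_gen hP c ho
      have a1 : a ≠ 1 := fun e => c1 (by rw [← hm', ← hn, e]; simp)
      have h5 : orderOf c ≤ orderOf (a ^ 2) := Nat.le_of_dvd (orderOf_pos _) (by
        rw [← hm', ← hn]; exact orderOf_pow_dvd m)
      obtain ⟨i, -, hi⟩ := (Nat.dvd_prime_pow Nat.prime_two).1 (orderOf_dvd_of_pow_eq_one hk)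
      have h6 : 2 ∣ orderOf a := by
        rcases i with _ | i
        · exact absurd (orderOf_eq_one_iff.1 (by simpa using hi)) a1
        · rw [hi]; exact dvd_pow_self 2 (by omega)
      rw [orderOf_pow_of_dvd two_ne_zero h6] at h5
      have := hm a ha
      have := orderOf_pos a
      omega

def InU (u z x : P) : Prop := x = 1 ∨ x = z ∨ x = u ∨ x = u * z

structure St (u z t : P) : Prop where
  pg : IsPGroup 2 P
  uu : u * u = 1
  tt : t * t = 1
  zz : z * z = 1
  z1 : z ≠ 1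
  zc : ∀ g, Commute g z
  un : ∀ g, cn g u = u ∨ cn g u = u * z
  tu : cn t u = u * z
  iso : ∀ x, x * x = 1 → cn t x = x → Commute x u → x = 1 ∨ x = z
  ex : ∃ x, x * x = 1 ∧ Commute x u ∧ ¬ InU u z x

variable [Finite P] {u z t b x y a d w g : P}

namespace St
variable (s : St u z t)
include s

theorem cz (g : P) : cn g z = z := cn_of (s.zc g)
theorem ctt (x : P) : cn t (cn t x) = x := by rw [cn_cn, s.tt, cn_one]
theorem ti : t⁻¹ = t := inv_of_sq s.tt
theorem ne_z (x : P) : x ≠ x * z := fun e => s.z1 (by simpa using e)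
theorem zzr (x : P) : x * z * z = x := by rw [mul_assoc, s.zz, mul_one]
theorem zl (x y : P) : x * z * y = x * y * z := by rw [mul_assoc, ← (s.zc y).eq, mul_assoc]
theorem zl' (x y : P) : x * (y * z) = x * y * z := by rw [mul_assoc]
theorem nc (h : ¬ Commute g u) : cn g u = u * z := (s.un g).resolve_left fun e => h (cn_iff.1 e)
theorem ntu : ¬ Commute t u := fun h => s.ne_z u ((cn_of h).symm.trans s.tu)
theorem U_sq (h : InU u z w) : w * w = 1 := by
  rcases h with rfl | rfl | rfl | rfl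
  exacts [one_mul 1, s.zz, s.uu, by rw [s.zl, s.zl', s.zzr, s.uu]]
theorem U_c (h : InU u z w) (hx : Commute x u) : Commute x w := by
  rcases h with rfl | rfl | rfl | rfl
  exacts [Commute.one_right _, s.zc _, hx, hx.mul_right (s.zc _)]
theorem U_u (h : InU u z w) : Commute w u := (s.U_c h (Commute.refl u)).symm
theorem U_fix (h : InU u z w) (e : cn t w = w) : w = 1 ∨ w = z := s.iso w (s.U_sq h) e (s.U_u h)
theorem U_mul (h : InU u z w) (h' : InU u z x) : InU u z (w * x) := by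
  have e1 := s.uu
  have e2 := s.zz
  have e3 : z * u = u * z := (s.zc u).eq.symm
  have e4 : z * (u * z) = u := by rw [← mul_assoc, e3, s.zzr]
  have e5 : u * (u * z) = z := by rw [← mul_assoc, e1, one_mul]
  have e6 : u * z * u = z := by rw [s.zl, e1, one_mul]
  have e7 := s.U_sq (w := u * z) (.inr (.inr (.inr rfl)))
  have e8 := s.zzr u
  rcases h with rfl | rfl | rfl | rfl <;> rcases h' with rfl | rfl | rfl | rfl <;> simp [InU, *]
theorem U_cn (h : InU u z w) (g : P) : InU u z (cn g w) := by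
  have h1 : InU u z (cn g u) := (s.un g).elim (fun e => .inr (.inr (.inl e))) fun e => .inr (.inr (.inr e))
  rcases h with rfl | rfl | rfl | rfl
  exacts [.inl (map_one _), .inr (.inl (s.cz g)), h1, by
    rw [map_mul, s.cz]; exact s.U_mul h1 (.inr (.inl rfl))]
theorem U_t (h : InU u z w) : cn g w = w ∨ cn g w = w * z := by
  rcases h with rfl | rfl | rfl | rfl
  · exact .inl (map_one _)
  · exact .inl (s.cz g)
  · exact s.un g
  · rw [map_mul, s.cz]; exact (s.un g).imp (fun e => by rw [e]) fun e => by rw [e]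
theorem c_cn (h : Commute x u) (g : P) : Commute (cn g x) u := by
  have := (s.U_c (s.U_cn (w := u) (.inr (.inr (.inl rfl))) g⁻¹) h).map (cn g)
  rwa [cn_cn_inv] at this
theorem c_mul (h : ¬ Commute x u) (h' : ¬ Commute y u) : Commute (x * y) u :=
  cn_iff.1 (by rw [← cn_cn, s.nc h, map_mul, s.nc h', s.cz, s.zzr])
theorem c_sq (x : P) : Commute (x * x) u := by
  by_cases h : Commute x u
  exacts [h.mul_left h, s.c_mul h h]
theorem small (h : Commute a u) (e : cn t a = a⁻¹) (h2 : a * a = 1) : a = 1 ∨ a = z :=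
  s.iso a h2 (e.trans (inv_of_sq h2)) h
theorem inv_z (h : Commute a u) (e : cn t a = a⁻¹) (h2 : a * a ≠ 1) : ∃ j, a ^ 2 ^ j * a ^ 2 ^ j = z := by
  obtain ⟨j, h3, h4⟩ := pw4 s.pg h2
  exact ⟨j, (s.small ((h.pow_left _).mul_left (h.pow_left _)) (by
    rw [map_mul, map_pow, e, inv_pow, mul_inv_rev]) h4).resolve_left h3⟩
theorem cinv (h : x * x = 1) : cn t (x * cn t x) = (x * cn t x)⁻¹ := by
  rw [map_mul, s.ctt, mul_inv_rev, ← map_inv, inv_of_sq h]
theorem cinv' (h : x * x = 1) : cn x (x * cn t x) = (x * cn t x)⁻¹ := by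
  rw [mul_inv_rev, ← map_inv, inv_of_sq h, cn_def, inv_of_sq h, ← mul_assoc, h, one_mul]
theorem c_ne (h : x * x = 1) (h1 : Commute x u) (h2 : ¬ InU u z x) : x * cn t x * (x * cn t x) ≠ 1 := fun e => by
  have hx : ∀ y, x * cn t x = y → cn t x = x * y := fun y e => by rw [← e, ← mul_assoc, h, one_mul]
  rcases s.small (h1.mul_left (s.c_cn h1 t)) (s.cinv h) e with e | e
  · exact h2 ((s.iso x h (by simpa using hx _ e) h1).imp_right .inl)
  · have := s.iso (x * u) (by rw [h1.symm.mul_mul_mul_comm, h, s.uu, one_mul])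
      (by rw [map_mul, hx _ e, s.tu, s.zl, s.zl', s.zzr]) (h1.mul_left (Commute.refl u))
    refine h2 (.inr (.inr (this.imp (fun e => ?_) fun e => ?_)))
    · rw [eq_inv_of_mul_eq_one_left e, inv_of_sq s.uu]
    · rw [eq_mul_inv_of_mul_eq e, inv_of_sq s.uu, (s.zc u).eq]
theorem fuse0 (h : x * x = 1) (h1 : Commute x u) (h2 : ¬ InU u z x) : ∃ g, Commute g u ∧ cn g x = x * z := by
  have h3 := h1.mul_left (s.c_cn h1 t)
  obtain ⟨j, e⟩ := s.inv_z h3 (s.cinv h) (s.c_ne h h1 h2)
  refine ⟨_, h3.pow_left (2 ^ j), ?_⟩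
  rw [cn_def, ← e, mul_cn x, map_inv, map_pow, s.cinv' h, inv_pow, inv_inv, mul_assoc]
theorem fuse (h : x * x = 1) (h1 : x ≠ 1) (h2 : x ≠ z) : ∃ g, cn g x = x * z := by
  by_cases h3 : Commute x u
  · by_cases h4 : InU u z x
    · rcases h4 with e | e | rfl | rfl
      exacts [absurd e h1, absurd e h2, ⟨t, s.tu⟩, ⟨t, by rw [map_mul, s.tu, s.cz]⟩]
    · exact let ⟨g, _, e⟩ := s.fuse0 h h3 h4; ⟨g, e⟩
  · refine ⟨u, ?_⟩
    rw [cn_def, inv_of_sq s.uu, mul_cn x u, s.nc h3, mul_assoc, s.zl, s.uu, one_mul]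
/-- an involution whose centralizer has index at most two -/
theorem ext (h : x * x = 1) (hi : ∀ g h, ¬ Commute g x → ¬ Commute h x → Commute (g * h) x) (g : P) :
    cn g x = x ∨ cn g x = x * z := by
  by_cases h1 : Commute g x
  · exact .inl (cn_of h1)
  have h2 : ∀ k, Commute k x → Commute k (cn g x) := fun k hk => by
    have : Commute (g * k * g⁻¹) x := hi _ _ (fun e => h1 (by simpa using e.mul_left hk.inv_left))
      fun e => h1 (by simpa using e.inv_left)
    have e := this.map (cn g)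
    rwa [show cn g (g * k * g⁻¹) = k by rw [cn_def]; group] at e
  have h3 := h2 x (Commute.refl x)
  have h4 : cn g (x * cn g x) = x * cn g x := by rw [map_mul, cn_cn, cn_of (hi g g h1 h1), h3.eq]
  have h5 : ∀ k, Commute k (x * cn g x) := fun k => by
    by_cases hk : Commute k x
    · exact hk.mul_right (h2 k hk)
    · have := hi k g hk h1
      simpa using (this.mul_right (h2 _ this)).mul_left (cn_iff.1 h4).inv_left
  have h6 : ∀ y, x * cn g x = y → cn g x = x * y := fun y e => by rw [← e, ← mul_assoc, h, one_mul]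
  exact (s.iso _ (by rw [h3.symm.mul_mul_mul_comm, ← map_mul, h, map_one, one_mul]) (cn_of (h5 t)) (h5 u).symm).imp
    (fun e => by simpa using h6 _ e) (h6 _)
theorem ext_U (h : x * x = 1) (h1 : Commute x u) (e : cn t x = x ∨ cn t x = x * z) : InU u z x := by
  by_contra h2
  refine s.c_ne h h1 h2 ?_
  rcases e with e | e <;> rw [e]
  · rw [h, one_mul]
  · rw [s.zl', h, one_mul, s.zz]
theorem b_cn (hu : Commute b u) (hn : ∀ g, ∃ w, InU u z w ∧ cn g b = b * w) (h : ¬ Commute g u) (h2 : g * g = 1) :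
    cn g b = b ∨ cn g b = b * z := by
  obtain ⟨w, hw, e⟩ := hn g
  have : cn g w = w := by
    have h3 : b = b * w * cn g w := by rw [← e, ← map_mul, ← e, cn_cn, h2, cn_one]
    rw [mul_assoc, left_eq_mul] at h3
    rw [eq_inv_of_mul_eq_one_right h3, inv_of_sq (s.U_sq hw)]
  rcases hw with rfl | rfl | rfl | rfl
  · exact .inl (by simpa using e)
  · exact .inr e
  · exact absurd (cn_iff.1 this) h
  · rw [map_mul, s.nc h, s.cz, s.zzr] at this; exact absurd this (s.ne_z _)

theorem exists_b : ∃ b, b * b = z ∧ Commute b u ∧ cn t b = b * z ∧ ∀ g, ∃ w, InU u z w ∧ cn g b = b * w := by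
  let U : Subgroup P :=
    { carrier := {x | InU u z x}
      one_mem' := .inl rfl
      mul_mem' := s.U_mul
      inv_mem' := fun h => by rwa [inv_of_sq (s.U_sq h)] }
  haveI : U.Normal := ⟨fun w hw g => by have := s.U_cn hw g⁻¹; rwa [cn_def, inv_inv] at this⟩
  haveI : (centralizer {u}).Normal := ⟨fun x hx g => by
    have := s.c_cn (mem_centralizer_singleton_iff.1 hx) g⁻¹
    rw [cn_def, inv_inv] at this
    exact mem_centralizer_singleton_iff.2 this⟩
  have hq := s.pg.to_quotient U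
  haveI := (inferInstance : (centralizer {u}).Normal).map _ (QuotientGroup.mk'_surjective U)
  obtain ⟨x, -, h1, h2⟩ := s.ex
  obtain ⟨⟨β, hβ, hc⟩, β1⟩ := (ne_bot_iff_exists_ne_one).1 (inf_center_ne_bot (p := 2) (T := ⊤) (hq.to_subgroup ⊤)
    (N := (centralizer {u}).map (QuotientGroup.mk' U)) le_top le_normalizer_of_normal fun e =>
      h2 ((QuotientGroup.eq_one_iff (N := U) x).1 (e.le ⟨x, mem_centralizer_singleton_iff.2 h1, rfl⟩)))
  replace β1 : β ≠ 1 := fun e => β1 (Subtype.ext e)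
  obtain ⟨j, h3, h4⟩ := pw2 hq β1
  obtain ⟨b, hb, e⟩ := pow_mem hβ (2 ^ j)
  have hu : Commute b u := mem_centralizer_singleton_iff.1 hb
  have hn : ∀ g, ∃ w, InU u z w ∧ cn g b = b * w := fun g => ⟨b⁻¹ * cn g b, (QuotientGroup.eq (s := U)).1 (by
    have := pow_mem hc (2 ^ j) (g : P ⧸ U) (mem_top _)
    rw [← e] at this
    rw [cn_def, QuotientGroup.mk_mul, QuotientGroup.mk_mul, QuotientGroup.mk_inv, mul_assoc]
    exact (inv_mul_eq_iff_eq_mul.2 this.symm).symm), by group⟩
  have h5 : InU u z (b * b) := (QuotientGroup.eq_one_iff (N := U) _).1 (by rw [← e] at h4; exact h4)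
  have h6 : ¬ InU u z b := fun h => h3 (e ▸ (QuotientGroup.eq_one_iff (N := U) _).2 h)
  have h7 := s.b_cn hu hn s.ntu s.tt
  have h8 : b * b = z := (s.U_fix h5 (by
    rw [map_mul]; rcases h7 with e | e <;> rw [e]; rw [s.zl, s.zl', s.zzr])).resolve_left
      fun e => h6 (s.ext_U e hu h7)
  rcases h7 with e' | e'
  · refine ⟨b * u, by rw [hu.symm.mul_mul_mul_comm, h8, s.uu, mul_one], hu.mul_left (Commute.refl u),
      by rw [map_mul, e', s.tu, mul_assoc], fun g => ?_⟩
    obtain ⟨w, hw, e⟩ := hn g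
    refine ⟨u * (w * cn g u), s.U_mul (.inr (.inr (.inl rfl))) (s.U_mul hw (s.U_cn (.inr (.inr (.inl rfl))) g)), ?_⟩
    rw [map_mul, e, mul_assoc b u, ← mul_assoc u, s.uu, one_mul, mul_assoc]
  · exact ⟨b, h8, hu, e', hn⟩

end St

end Cfsg.Lib.NC
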