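import Cfsg.Agent.Lib.NC.A

/-! Nonconnected `2`-groups: the centralizer of the normal subgroup `⟨b, u⟩ ≅ C₄ × C₂`. -/

set_option autoImplicit false
set_option linter.unusedSectionVars false
set_option linter.style.haveILetI false

namespace Cfsg.Lib.NC

open Subgroup Cfsg.Lib.Amalg

variable {P : Type*} [Group P]

theorem cn_map {Q : Type*} [Group Q] (φ : P →* Q) (a d : P) : φ (cn a d) = cn (φ a) (φ d) := by simp [cn_def]
theorem sq_mul (x y : P) : x * y * (x * y) = x * x * (cn x y * y) := by rw [cn_def]; group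

structure S2 (u z t b : P) : Prop extends St u z t where
  bb : b * b = z
  bu : Commute b u
  tb : cn t b = b * z
  bn : ∀ g, ∃ w, InU u z w ∧ cn g b = b * w

def C1 (u b x : P) : Prop := Commute x u ∧ Commute x b
def Iv (u t b x : P) : Prop := C1 u b x ∧ cn t x = x⁻¹

variable [Finite P] {u z t b x y a d e w g β : P}

theorem C1.mul (h : C1 u b x) (h' : C1 u b y) : C1 u b (x * y) := ⟨h.1.mul_left h'.1, h.2.mul_left h'.2⟩
theorem C1.inv (h : C1 u b x) : C1 u b x⁻¹ := ⟨h.1.inv_left, h.2.inv_left⟩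
theorem C1.pow (h : C1 u b x) (n : ℕ) : C1 u b (x ^ n) := ⟨h.1.pow_left n, h.2.pow_left n⟩
theorem Iv.pow (h : Iv u t b x) (n : ℕ) : Iv u t b (x ^ n) := ⟨h.1.pow n, by rw [map_pow, h.2, inv_pow]⟩
theorem Iv.inv (h : Iv u t b x) : Iv u t b x⁻¹ := ⟨h.1.inv, by rw [map_inv, h.2]⟩

namespace S2
variable (s : S2 u z t b)
include s

theorem inv_sq (h : d * d = z) : d⁻¹ = d * z :=
  inv_eq_of_mul_eq_one_right (by rw [← mul_assoc, h, s.zz])
theorem C_U (h : InU u z w) : C1 u b w := ⟨s.U_u h, (s.U_c h s.bu).symm⟩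
theorem C_b : C1 u b b := ⟨s.bu, Commute.refl b⟩
theorem C_bw (h : C1 u b y) (hw : InU u z w) : Commute y (b * w) := h.2.mul_right (s.U_c hw h.1)
theorem C_cn (h : C1 u b x) (g : P) : C1 u b (cn g x) := ⟨s.c_cn h.1 g, by
  obtain ⟨w, hw, e⟩ := s.bn g⁻¹
  have := (s.C_bw h hw).map (cn g)
  rwa [← e, cn_cn_inv] at this⟩
theorem I_U (h : w = 1 ∨ w = z) : Iv u t b w := by
  rcases h with rfl | rfl
  exacts [⟨s.C_U (.inl rfl), by simp⟩, ⟨s.C_U (.inr (.inl rfl)), by rw [s.cz, inv_of_sq s.zz]⟩]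
theorem I_b : Iv u t b b := ⟨s.C_b, by rw [s.tb, s.inv_sq s.bb]⟩
theorem I1 (h : x * x = 1) (h1 : C1 u b x) : InU u z x := by
  by_contra h2
  have h3 := h1.mul (s.C_cn h1 t)
  obtain ⟨j, e⟩ := s.inv_z h3.1 (s.cinv h) (s.c_ne h h1.1 h2)
  have h4 := h3.pow (2 ^ j)
  have h5 : cn t ((x * cn t x) ^ 2 ^ j) = (x * cn t x) ^ 2 ^ j * z := by rw [map_pow, s.cinv h, inv_pow, s.inv_sq e]
  have h6 : cn x ((x * cn t x) ^ 2 ^ j) = (x * cn t x) ^ 2 ^ j * z := by rw [map_pow, s.cinv' h, inv_pow, s.inv_sq e]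
  generalize (x * cn t x) ^ 2 ^ j = d at *
  have h7 : Commute x (b * d) := by
    rcases s.iso (b * d) (by rw [h4.2.mul_mul_mul_comm, e, s.bb, s.zz]) (by
      rw [map_mul, s.tb, h5, s.zl, s.zl', s.zzr]) (s.bu.mul_left h4.1) with e | e <;> rw [e]
    exacts [Commute.one_right _, s.zc _]
  exact s.ne_z d ((cn_of (by simpa using h1.2.inv_right.mul_right h7)).symm.trans h6)
theorem I2 (h : y * y = z) (h1 : C1 u b y) : ∃ w, InU u z w ∧ y = b * w :=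
  ⟨b⁻¹ * y, s.I1 (by rw [h1.2.inv_right.mul_mul_mul_comm, h, ← mul_inv_rev, s.bb, inv_mul_cancel])
    (s.C_b.inv.mul h1), by group⟩
theorem I3 (h : Iv u t b a) (h2 : a * a = z) : a = b ∨ a = b * z := by
  obtain ⟨w, hw, rfl⟩ := s.I2 h2 h.1
  have := h.2
  rw [map_mul, s.tb, s.inv_sq h2, s.zl, mul_left_inj, mul_right_inj] at this
  exact (s.U_fix hw this).imp (fun e => by rw [e, mul_one]) fun e => by rw [e]
theorem I3' (h : Iv u t b a) (h2 : a * a ≠ 1) : ∃ j, a ^ 2 ^ j = b ∨ a ^ 2 ^ j = b * z :=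
  let ⟨j, e⟩ := s.inv_z h.1.1 h.2 h2; ⟨j, s.I3 (h.pow _) e⟩
theorem be_sq (h : β = b ∨ β = b * z) : β * β = z := by
  rcases h with rfl | rfl
  exacts [s.bb, by rw [s.zl, s.zl', s.zzr, s.bb]]
theorem be_c (h : β = b ∨ β = b * z) (hy : Commute y b) : Commute y β := by
  rcases h with rfl | rfl
  exacts [hy, hy.mul_right (s.zc _)]
theorem be_ne (h : β = b ∨ β = b * z) : β ≠ β⁻¹ := by rw [s.inv_sq (s.be_sq h)]; exact s.ne_z _
theorem be_n (h : β = b ∨ β = b * z) (hy : cn y b = b * z) : cn y β ≠ β := by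
  rcases h with rfl | rfl
  · rw [hy]; exact (s.ne_z _).symm
  · rw [map_mul, hy, s.cz]; exact (s.ne_z _).symm
theorem I_small (h : Iv u t b a) (hy : cn y b = b * z) (e : cn y a = a) : a = 1 ∨ a = z := by
  refine s.small h.1.1 h.2 (by_contra fun h2 => ?_)
  obtain ⟨j, hj⟩ := s.I3' h h2
  exact s.be_n hj hy (by rw [map_pow, e])
theorem I_t (h : C1 u b y) : Iv u t b (y⁻¹ * cn t y) :=
  ⟨h.inv.mul (s.C_cn h t), by rw [map_mul, map_inv, s.ctt, mul_inv_rev, inv_inv]⟩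
theorem I4 (h : C1 u b d) (h2 : d * d = u ∨ d * d = u * z) : ∃ β, (β = b ∨ β = b * z) ∧ cn t d = d * β := by
  have h3 := s.I_t h
  have h4 : cn t d = d * (d⁻¹ * cn t d) := by group
  generalize d⁻¹ * cn t d = a at h3 h4
  have h5 : cn d a * a = z := by
    have : cn t (d * d) = d * d * z := by
      rcases h2 with e | e <;> rw [e]
      exacts [s.tu, by rw [map_mul, s.tu, s.cz]]
    rwa [map_mul, h4, sq_mul, mul_right_inj] at this
  have h6 : a * a ≠ 1 := fun e => s.z1 (by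
    rw [← h5, cn_of, e]
    rcases s.small h3.1.1 h3.2 e with rfl | rfl
    exacts [Commute.one_right _, s.zc _])
  obtain ⟨j, hj⟩ := s.I3' h3 h6
  rcases j with _ | j
  · exact ⟨a, by simpa using hj, h4⟩
  refine absurd ?_ (s.be_ne hj)
  refine (cn_of (s.be_c hj h.2)).symm.trans ?_
  rw [map_pow, eq_mul_inv_of_mul_eq h5, (s.zc _).symm.mul_pow, pow_succ' 2 j, pow_mul z, sq,
    s.zz, one_pow, one_mul, inv_pow]
theorem noinv (ha : C1 u b a) (he : C1 u b e) (h : cn a e = e⁻¹) (ht : cn t a = a⁻¹ ∨ cn t a = a) : e * e = 1 := by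
  by_contra h2
  obtain ⟨j, h3, h4⟩ := pw4 s.pg h2
  have h5 := he.pow (2 ^ j)
  have h6 : cn a (e ^ 2 ^ j) = (e ^ 2 ^ j)⁻¹ := by rw [map_pow, h, inv_pow]
  generalize e ^ 2 ^ j = d at *
  have h7 : cn a⁻¹ d = d⁻¹ := by rw [← inv_inv d, ← h6, map_inv, cn_inv_cn, h6, inv_inv]
  rcases s.I1 h4 (h5.mul h5) with e | e | e
  · exact h3 e
  · obtain ⟨w, hw, rfl⟩ := s.I2 e h5
    rw [cn_of (s.C_bw ha hw), s.inv_sq e] at h6
    exact s.ne_z _ h6
  · obtain ⟨β, hβ, e⟩ := s.I4 h5 e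
    have h8 := congrArg (cn t) h6
    rw [cn_map, map_inv, e, map_mul, cn_of (s.be_c hβ (s.C_cn ha t).2), mul_inv_rev,
      (s.be_c hβ h5.2).symm.inv_inv.eq] at h8
    rcases ht with e | e <;> rw [e] at h8
    · rw [h7, mul_right_inj] at h8; exact s.be_ne hβ h8
    · rw [h6, mul_right_inj] at h8; exact s.be_ne hβ h8
theorem root (h : x * x = y * y) : cn y (x * y⁻¹) = (x * y⁻¹)⁻¹ := by
  rw [cn_def, mul_inv_rev, inv_inv, mul_assoc, mul_assoc, inv_mul_cancel, mul_one, inv_mul_eq_iff_eq_mul, ← mul_assoc,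
    ← h, mul_inv_cancel_right]
theorem cycI : ∃ c, Iv u t b c ∧ ∀ a, Iv u t b a → ∃ n : ℕ, a = c ^ n :=
  cyc s.pg z _ (s.I_U (.inr rfl)) s.z1 (fun _ n h => h.pow n) fun x y hx hy h => by
    have h1 := hx.1.mul hy.1.inv
    have h2 := s.I1 (s.noinv hy.1 h1 (s.root h) (.inl hy.2)) h1
    have h3 : x = y * (x * y⁻¹) := by rw [← (s.U_c h2 hy.1.1).symm.eq]; group
    generalize x * y⁻¹ = e at h2 h3
    have h4 := hx.2
    rw [h3, map_mul, hy.2, mul_inv_rev, inv_of_sq (s.U_sq h2), ← (s.U_c h2 hy.1.1.inv_left).eq, mul_right_inj] at h4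
    exact (s.U_fix h2 h4).imp (fun e => by rw [h3, e, mul_one]) fun e => by rw [h3, e]
theorem cycR (hx : C1 u b x) (hy : C1 u b y) (h1 : cn t x = x) (h2 : cn t y = y) : Commute x y := by
  obtain ⟨c, -, h⟩ := cyc s.pg z (fun a => C1 u b a ∧ cn t a = a) ⟨s.C_U (.inr (.inl rfl)), s.cz t⟩ s.z1
    (fun _ n h => ⟨h.1.pow n, by rw [map_pow, h.2]⟩) fun x y hx hy h => by
    have h1 := hx.1.mul hy.1.inv
    exact (s.iso _ (s.noinv hy.1 h1 (s.root h) (.inr hy.2)) (by rw [map_mul, map_inv, hx.2, hy.2]) h1.1).imp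
      mul_inv_eq_one.1 fun e => by rw [(s.zc y).eq, ← e, inv_mul_cancel_right]
  obtain ⟨n, rfl⟩ := h x ⟨hx, h1⟩
  obtain ⟨m, rfl⟩ := h y ⟨hy, h2⟩
  exact Commute.pow_pow_self c n m
theorem I_c (hx : Iv u t b x) (hy : Iv u t b y) : Commute x y := by
  obtain ⟨c, -, h⟩ := s.cycI
  obtain ⟨n, rfl⟩ := h x hx
  obtain ⟨m, rfl⟩ := h y hy
  exact Commute.pow_pow_self c n m
theorem I_mul (hx : Iv u t b x) (hy : Iv u t b y) : Iv u t b (x * y) :=
  ⟨hx.1.mul hy.1, by rw [map_mul, hx.2, hy.2, (s.I_c hx hy).eq, mul_inv_rev]⟩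
theorem dich (h : Iv u t b a) : (∃ g, Iv u t b g ∧ a = g * g) ∨ ∀ x, Iv u t b x → ∃ n : ℕ, x = a ^ n := by
  obtain ⟨c, hc, h1⟩ := s.cycI
  obtain ⟨n, rfl⟩ := h1 a h
  rcases Nat.even_or_odd n with ⟨m, rfl⟩ | ho
  · exact .inl ⟨c ^ m, hc.pow m, pow_add c m m⟩
  · obtain ⟨m, hm⟩ := odd_gen s.pg c ho
    exact .inr fun x hx => let ⟨k, e⟩ := h1 x hx; ⟨m * k, by rw [pow_mul, hm, e]⟩
theorem split (h : Iv u t b a) (hw : InU u z w) : Iv u t b (a * w) ∨ Iv u t b (a * w * u) := by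
  rcases hw with e | e | rfl | rfl
  exacts [.inl (s.I_mul h (s.I_U (.inl e))), .inl (s.I_mul h (s.I_U (.inr e))),
    .inr (by rwa [mul_assoc, s.uu, mul_one]),
    .inr (by rw [s.zl', s.zl, mul_assoc a, s.uu, mul_one]; exact s.I_mul h (s.I_U (.inr rfl)))]
theorem small_R (h : C1 u b y) (h2 : y * y = 1 ∨ y * y = z) : ∃ a w, Iv u t b a ∧ InU u z w ∧ y = a * w :=
  h2.elim (fun e => ⟨1, y, s.I_U (.inl rfl), s.I1 e h, (one_mul y).symm⟩)
    fun e => let ⟨w, hw, e⟩ := s.I2 e h; ⟨b, w, s.I_b, hw, e⟩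
theorem fix_I (h : Iv u t b a) (e : cn t a = a) : a = 1 ∨ a = z :=
  s.small h.1.1 h.2 (by nth_rw 1 [← e]; rw [h.2, inv_mul_cancel])

end S2

end Cfsg.Lib.NC
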