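import Cfsg.Agent.Lib.NC.B

/-! Nonconnected `2`-groups: if `z` is not fused to `u` there is an abelian quotient in which `u` survives. -/

set_option autoImplicit false
set_option linter.unusedSectionVars false
set_option linter.style.haveILetI false

namespace Cfsg.Lib.NC

open Subgroup Cfsg.Lib.Amalg

variable {P : Type*} [Group P]

def K4 {u z : P} (uu : u * u = 1) (zz : z * z = 1) (c : Commute u z) : Subgroup P where
  carrier := {x | InU u z x}
  one_mem' := .inl rfl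
  mul_mem' := fun {w x} h h' => by
    have e3 : z * u = u * z := c.eq.symm
    have e8 : u * z * z = u := by rw [mul_assoc, zz, mul_one]
    have e4 : z * (u * z) = u := by rw [← mul_assoc, e3, e8]
    have e5 : u * (u * z) = z := by rw [← mul_assoc, uu, one_mul]
    have e6 : u * z * u = z := by rw [mul_assoc, e3, e5]
    have e7 : u * z * (u * z) = 1 := by rw [← mul_assoc, e6, zz]
    rcases h with rfl | rfl | rfl | rfl <;> rcases h' with rfl | rfl | rfl | rfl <;> simp [InU, *]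
  inv_mem' := fun {x} h => by
    have e7 : u * z * (u * z) = 1 := by rw [c.symm.mul_mul_mul_comm, uu, zz, one_mul]
    rcases h with rfl | rfl | rfl | rfl <;> simp [InU, inv_of_sq, *]

structure S3 (u z t b : P) (Z : P → Prop) : Prop extends S2 u z t b where
  Zc : ∀ x g, Z x → Z (cn g x)
  Zi : ∀ x, Z x → x * x = 1
  Zm : ∀ x y, Z x → Z y → Commute x y → x ≠ y → Z (x * y)
  Z1 : ¬ Z 1
  Zu : ¬ Z u
  Zq : ∀ v y, Z v → v ≠ z → Commute y v → y * y = z → ∃ y', Z (y' * y') ∧ y' * y' ≠ z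
  Zex : ∃ v, Z v ∧ v ≠ z

variable [Finite P] {u z t b x y a d e w g β v r : P} {Z : P → Prop}

def Z' (Z : P → Prop) (u z v : P) : Prop := Z v ∧ v ≠ z ∧ Commute v u

namespace S3
variable (s : S3 u z t b Z)
include s

theorem ZU (h : Z x) (hx : InU u z x) : x = z := by
  rcases hx with rfl | e | rfl | rfl
  exacts [absurd h s.Z1, e, absurd h s.Zu, absurd (by have := s.Zc _ t h; rwa [map_mul, s.tu, s.cz, s.zzr] at this) s.Zu]
theorem Zw (h : Z x) (h' : Z (x * w)) (hw : InU u z w) (hx : Commute x u) : w = 1 ∨ w = z := by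
  by_cases e : w = 1
  · exact .inl e
  have := s.Zm _ _ h h' ((Commute.refl x).mul_right (s.U_c hw hx)) (by simpa using e)
  rw [← mul_assoc, s.Zi x h, one_mul] at this
  exact .inr (s.ZU this hw)
theorem ex' : ∃ v, Z' Z u z v := by
  obtain ⟨v, h1, h2⟩ := s.Zex
  by_cases h : Commute v u
  · exact ⟨v, h1, h2, h⟩
  obtain ⟨y, h3, h4⟩ : ∃ y, Commute y v ∧ y * y = z := by
    rcases s.b_cn s.bu s.bn h (s.Zi v h1) with e | e
    · exact ⟨b, (cn_iff.1 e).symm, s.bb⟩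
    · exact ⟨b * u, (cn_iff.1 (by rw [map_mul, e, s.nc h, s.zl, s.zl', s.zzr])).symm, by
        rw [s.bu.symm.mul_mul_mul_comm, s.bb, s.uu, mul_one]⟩
  obtain ⟨y', h5, h6⟩ := s.Zq v y h1 h2 h3 h4
  exact ⟨_, h5, h6, s.c_sq y'⟩
theorem Zcn (h : Z' Z u z v) (g : P) : Z' Z u z (cn g v) :=
  ⟨s.Zc v g h.1, fun e => h.2.1 (cn_inj g (e.trans (s.cz g).symm)), s.c_cn h.2.2 g⟩
theorem nC (h : Z' Z u z v) : ¬ Commute v b := fun e => h.2.1 (s.ZU h.1 (s.I1 (s.Zi v h.1) ⟨h.2.2, e⟩))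
theorem vb (h : Z' Z u z v) : cn v b = b * z := by
  obtain ⟨w, hw, e⟩ := s.bn v
  have h1 : cn b v = v * w := by
    rw [cn_def, mul_cn v, map_inv, e, (s.C_U hw).2.symm.eq, mul_inv_rev, inv_of_sq (s.U_sq hw), mul_assoc, mul_assoc,
      (s.C_U hw).2.eq, inv_mul_cancel_left]
  rcases s.Zw h.1 (h1 ▸ s.Zc v b h.1) hw h.2.2 with rfl | rfl
  exacts [absurd (cn_iff.1 (by simpa using e)) (s.nC h), e]
theorem bv (h : Z' Z u z v) : cn b v = v * z := by
  rw [cn_def, mul_cn v, map_inv, s.vb h, mul_inv_rev, inv_of_sq s.zz, mul_assoc, inv_mul_cancel_right]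
theorem vinv (h : Z v) (h' : Z (v * a)) : cn v a = a⁻¹ := by
  have := s.Zi _ h'
  rw [sq_mul, s.Zi v h, one_mul] at this
  exact eq_inv_of_mul_eq_one_left this
theorem dih (h : Z v) (h' : Z (v * a)) (n : ℕ) : Z (v * a ^ n) := by
  induction n using Nat.twoStepInduction with
  | zero => simpa using h
  | one => simpa using h'
  | more n h1 _ =>
    have := s.Zc _ a h1
    rwa [cn_def, ← mul_assoc, mul_cn v, map_inv, s.vinv h h', inv_inv, mul_assoc, mul_assoc, ← pow_succ, ← pow_succ'] at this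
theorem vv (h : Z v) (x : P) : v * (v * x) = x := by rw [← mul_assoc, s.Zi v h, one_mul]
theorem C_vv (h : Z' Z u z v) (h' : Z' Z u z x) : C1 u b (v * x) := ⟨h.2.2.mul_left h'.2.2, cn_iff.1 (by
  rw [← cn_cn, s.vb h, map_mul, s.vb h', s.cz, s.zzr])⟩
theorem I_c0 (h : Z' Z u z v) : Iv u t b (v * cn t v) := ⟨s.C_vv h (s.Zcn h t), s.cinv (s.Zi v h.1)⟩
theorem Zvb (h : Z' Z u z v) : Z (v * b) := by
  obtain ⟨j, e⟩ := s.I3' (s.I_c0 h) (s.c_ne (s.Zi v h.1) h.2.2 fun e => h.2.1 (s.ZU h.1 e))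
  have := s.dih h.1 (a := v * cn t v) (by rw [s.vv h.1]; exact s.Zc v t h.1) (2 ^ j)
  rcases e with e | e <;> rw [e] at this
  · exact this
  · have := s.dih h.1 this 3
    rwa [pow_succ, sq, s.be_sq (.inr rfl), ← mul_assoc z, ← (s.zc b).eq, s.zzr] at this
theorem bn' (g : P) : cn g b = b ∨ cn g b = b * z := by
  obtain ⟨v, h⟩ := s.ex'
  obtain ⟨w, hw, e⟩ := s.bn g
  have := s.Zc _ g (s.Zvb h)
  rw [map_mul, e, ← mul_assoc] at this
  exact (s.Zw (s.Zvb (s.Zcn h g)) this hw ((s.Zcn h g).2.2.mul_left s.bu)).imp (fun e' => by rw [e, e', mul_one])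
    fun e' => by rw [e, e']
theorem sw (hβ : ∀ g, cn g β = β ∨ cn g β = β * z) (g h : P) : cn h (cn g β) = cn g (cn h β) := by
  rcases hβ g with e | e <;> rcases hβ h with e' | e' <;> simp only [e, e', map_mul, s.cz]
theorem sq1 (hβ : ∀ g, cn g β = β ∨ cn g β = β * z) (g : P) : Commute (g * g) β := cn_iff.1 (by
  rw [← cn_cn]; rcases hβ g with e | e <;> simp only [e, map_mul, s.cz, s.zzr])
theorem cm1 (hβ : ∀ g, cn g β = β ∨ cn g β = β * z) (g : P) : Commute (t * cn g t) β := cn_iff.1 (by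
  rw [cn_def g t, ← cn_cn, ← cn_cn, ← cn_cn, s.sw hβ t g⁻¹, s.ctt, cn_cn_inv])
theorem Q1 (h : Z v) (h1 : v ≠ z) (h2 : Commute y v) : y * y ≠ z := fun e => by
  obtain ⟨y', h3, h4⟩ := s.Zq v y h h1 h2 e
  exact h4 (s.ZU h3 (s.I1 (s.Zi _ h3) ⟨s.sq1 s.un y', s.sq1 s.bn' y'⟩))
theorem Q2 (h : Z' Z u z v) (h1 : ¬ Commute x u) (h2 : x * x = 1 ∨ x * x = z) (h3 : Commute x v) : False := by
  rcases h2 with e | e
  · exact s.Q1 h.1 h.2.1 (h3.mul_left h.2.2.symm) (by rw [sq_mul, e, s.nc h1, s.zl, s.uu, one_mul, one_mul])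
  · exact s.Q1 h.1 h.2.1 h3 e
theorem Q3 (h : Z' Z u z v) (h1 : ¬ Commute x u) (h2 : x * x = 1 ∨ x * x = z) (h3 : cn x v = v ∨ cn x v = v * z) :
    False := by
  rcases h3 with h3 | h3
  · exact s.Q2 h h1 h2 (cn_iff.1 h3)
  refine s.Q2 h (x := x * b) (fun e => h1 (by simpa using e.mul_left s.bu.inv_left)) ?_
    (cn_iff.1 (by rw [← cn_cn, h3, map_mul, s.bv h, s.cz, s.zzr]))
  rw [sq_mul]
  rcases h2 with e | e <;> rcases s.bn' x with e' | e' <;> simp [e, e', s.zl, s.bb, s.zz]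
theorem Ext (h : x * x = 1) (h1 : ∀ g, cn g x = x ∨ cn g x = x * z) : InU u z x := by
  by_cases h2 : Commute x u
  · exact s.ext_U h h2 (h1 t)
  obtain ⟨v, hv⟩ := s.ex'
  refine (s.Q3 hv h2 (.inl h) ((h1 v).imp (fun e => cn_of (cn_iff.1 e).symm) fun e => ?_)).elim
  rw [cn_def, inv_of_sq h, mul_cn v, e, mul_assoc, s.zl, h, one_mul]
theorem tg (g : P) : Iv u t b (t * cn g t) := ⟨⟨s.cm1 s.un g, s.cm1 s.bn' g⟩, by
  rw [mul_inv_rev, ← map_inv, s.ti, cn_def t, s.ti, ← mul_assoc, s.tt, one_mul]⟩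
theorem tx (x : P) : t * (t * x) = x := by rw [← mul_assoc, s.tt, one_mul]
theorem I_cn (h : Iv u t b a) (g : P) : Iv u t b (cn g a) := ⟨s.C_cn h.1 g, by
  have := s.tg g⁻¹
  rw [cn_cn, show g * t = t * (t * cn g⁻¹ t) * g by rw [s.tx, cn_def]; group, ← cn_cn, ← cn_cn, h.2,
    cn_of (s.I_c this h.inv), map_inv]⟩
theorem vI (h : Z' Z u z v) (ha : Iv u t b a) : cn v a = a⁻¹ ∨ cn v a = a⁻¹ * z := by
  have h1 := s.I_cn ha v
  exact (s.I_small (s.I_mul h1 ha) (s.vb h) (by rw [map_mul, cn_cn, s.Zi v h.1, cn_one, (s.I_c ha h1).eq])).imp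
    eq_inv_of_mul_eq_one_left fun e => by rw [eq_mul_inv_of_mul_eq e, (s.zc _).eq]
theorem nsmall (h : cn r b = b * z) : ¬ (r = 1 ∨ r = z) := by
  rintro (rfl | rfl)
  exacts [s.ne_z b ((cn_one b).symm.trans h), s.ne_z b ((cn_of (s.zc b).symm).symm.trans h)]
theorem gen (h : Z' Z u z v) : ∀ a, Iv u t b a → ∃ n : ℕ, a = (v * cn t v) ^ n := by
  refine (s.dich (s.I_c0 h)).resolve_left ?_
  rintro ⟨g, hg, e⟩
  have e1 : cn t v = v * (g * g) := by rw [← e, s.vv h.1]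
  rcases s.vI h hg with e2 | e2
  · exact s.nsmall (r := v * g) (by rw [← cn_cn, s.vb h, map_mul, cn_of hg.1.2, s.cz]) (s.iso _
      (by rw [sq_mul, e2, s.Zi v h.1]; simp) (by rw [map_mul, e1, hg.2]; group) (h.2.2.mul_left hg.1.1))
  · refine s.Q3 h (x := t * g⁻¹) (fun e => s.ntu (by simpa using e.mul_left hg.1.1)) (.inl ?_) (.inr ?_)
    · rw [sq_mul, s.tt, map_inv, hg.2]; simp
    · rw [← cn_cn, e1, cn_def, inv_inv, ← mul_assoc g, mul_cn v, e2, s.zl', s.zl, s.zl]; group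
theorem Zall (h : Z' Z u z v) (ha : Iv u t b a) : Z (v * a) := by
  obtain ⟨n, rfl⟩ := s.gen h a ha
  exact s.dih h.1 (by rw [s.vv h.1]; exact s.Zc v t h.1) n
theorem uniq (h : C1 u b y) (h2 : Iv u t b (y * y)) : Iv u t b y ∨ Iv u t b (y * u) := by
  have h3 := s.I_t h
  have h4 : cn t y = y * (y⁻¹ * cn t y) := by group
  generalize y⁻¹ * cn t y = a at h3 h4
  rcases s.dich h3 with ⟨g, hg, rfl⟩ | ga
  · have e : cn t (y * g) = y * g := by rw [map_mul, h4, hg.2]; group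
    obtain ⟨a, w, ha, hw, e'⟩ := s.small_R (h.mul hg.1) (s.fix_I (by
      rw [sq_mul]; exact s.I_mul h2 (s.I_mul (s.I_cn hg y) hg)) (by rw [map_mul, e]))
    rw [show y = a * g⁻¹ * w by rw [mul_assoc, (s.U_c hw hg.1.1.inv_left).eq, ← mul_assoc, ← e']; group]
    exact s.split (s.I_mul ha hg.inv) hw
  have h5 : cn y a = (y * y)⁻¹ * (y * y)⁻¹ * a⁻¹ := by
    have := h2.2
    rw [map_mul, h4, sq_mul] at this
    rw [mul_assoc]; nth_rw 2 [← this]; group
  rcases s.dich h2 with ⟨g, hg, e⟩ | gf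
  · obtain ⟨n, rfl⟩ := ga g hg
    obtain ⟨m, hm⟩ := ga b s.I_b
    obtain ⟨j, hj⟩ := s.I3' h3 fun e => s.z1 (by rw [← s.bb, hm, ← (Commute.refl a).mul_pow, e, one_pow])
    refine absurd ((cn_of (s.be_c hj h.2)).symm.trans ?_) (s.be_ne hj)
    rw [map_pow, h5, e, show (a ^ n * a ^ n)⁻¹ * (a ^ n * a ^ n)⁻¹ * a⁻¹ = (a * a ^ (4 * n))⁻¹ by group, inv_pow,
      ((Commute.refl a).pow_right _).mul_pow, ← pow_mul, mul_comm, pow_mul, pow_mul, show 4 = 2 + 2 from rfl, pow_add,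
      sq, s.be_sq hj, s.zz, one_pow, mul_one]
  · obtain ⟨n, hn⟩ := gf a h3
    have h6 : Commute y a := hn ▸ ((Commute.refl y).mul_right (Commute.refl y)).pow_right n
    have h7 := s.I_mul h3 h2
    rw [cn_of h6] at h5
    have h8 : ∀ k, a * (y * y) = k → cn t y = y⁻¹ * k := fun k e => by
      rw [h4, ← e, ← (h6.symm.mul_right h6.symm).symm.eq, h6.eq, ← h6.eq]; group
    rcases s.small h7.1.1 h7.2 (by
      rw [(s.I_c h2 h3).mul_mul_mul_comm, eq_mul_inv_iff_mul_eq.1 h5]; group) with e | e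
    · exact .inl ⟨h, by rw [h8 _ e, mul_one]⟩
    · exact .inr ⟨h.mul (s.C_U (.inr (.inr (.inl rfl)))), by
        rw [map_mul, h8 _ e, s.tu, s.zl, s.zl', s.zzr, mul_inv_rev, inv_of_sq s.uu, h.1.inv_left.eq]⟩
theorem u_ne : ¬ (u = 1 ∨ u = z) := by
  rintro (e | e)
  exacts [s.ntu (e ▸ Commute.one_right t), s.ntu (e ▸ s.zc t)]
theorem vI' (h : Z' Z u z v) (ha : C1 u b a) (h2 : Z (v * a)) : Iv u t b a := by
  obtain ⟨k, hk⟩ := s.pg a
  induction k generalizing a with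
  | zero => exact s.I_U (.inl (by simpa using hk))
  | succ k ih =>
    refine (s.uniq ha (sq a ▸ ih (ha.pow 2) (s.dih h.1 h2 2) (by rw [← pow_mul, ← pow_succ', hk]))).resolve_right
      fun e => s.u_ne (s.Zw h2 (mul_assoc v a u ▸ s.Zall h e) (.inr (.inr (.inl rfl))) (h.2.2.mul_left ha.1))
theorem vg (h : Z' Z u z v) (g : P) : Iv u t b (v * cn g v) :=
  s.vI' h (s.C_vv h (s.Zcn h g)) (by rw [s.vv h.1]; exact s.Zc v g h.1)
theorem R_C (h : Commute r u) (h1 : cn t r = r) : Commute r b := by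
  by_contra h2
  have h3 := (s.bn' r).resolve_left fun e => h2 (cn_iff.1 e)
  have h4 : C1 u b (r * r) := ⟨h.mul_left h, s.sq1 s.bn' r⟩
  have h5 : cn t (r * r) = r * r := by rw [map_mul, h1]
  have h6 : r * r = z := (s.iso _ (by_contra fun h6 => by
    obtain ⟨j, h7, h8⟩ := pw4 s.pg h6
    have h9 := h4.pow (2 ^ j)
    have h10 : cn r ((r * r) ^ 2 ^ j) = (r * r) ^ 2 ^ j :=
      cn_of (((Commute.refl r).mul_right (Commute.refl r)).pow_right _)
    obtain ⟨w, hw, e⟩ := s.I2 ((s.iso _ h8 (by rw [map_mul, map_pow, h5]) (h9.mul h9).1).resolve_left h7) h9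
    rw [e, map_mul, h3, cn_of (s.U_c hw h), s.zl] at h10
    exact s.ne_z _ h10.symm) h5 h4.1).resolve_left fun e => s.nsmall h3 (s.iso r e h1 h)
  obtain ⟨v, hv⟩ := s.ex'
  have ha := s.vg hv r
  have hc := s.I_c0 hv
  have e1 : cn r v = v * (v * cn r v) := (s.vv hv.1 _).symm
  have e2 : cn t v = v * (v * cn t v) := (s.vv hv.1 _).symm
  have e0 := s.vinv hv.1 (e1 ▸ s.Zc v r hv.1)
  generalize v * cn r v = a at ha e1 e0
  have e3 : cn r (cn t v) = cn t (cn r v) := by rw [cn_cn, cn_cn, (cn_iff.1 h1).eq]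
  generalize v * cn t v = c at hc e2
  have e4 : cn r a = a⁻¹ := by
    have : cn r (cn r v) = v := by rw [cn_cn, h6, cn_of (s.zc v).symm]
    rw [e1, map_mul, e1, mul_assoc, mul_eq_left] at this
    exact eq_inv_of_mul_eq_one_right this
  have e5 : cn r (cn t v) = v * (c * a⁻¹) := by rw [e3, e1, map_mul, e2, ha.2, mul_assoc]
  have e6 : cn r (c * a⁻¹) = c * a⁻¹ := by
    have := e5
    rw [e2, map_mul, e1, mul_assoc, mul_right_inj] at this
    rw [map_mul, map_inv, e4, inv_inv, eq_inv_mul_of_mul_eq this, mul_assoc, inv_mul_cancel_right, (s.I_c hc ha.inv).eq]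
  refine s.Q3 hv (x := t * r) (fun e => s.ntu (by simpa using e.mul_left h.inv_left))
    (.inr (by rw [sq_mul, s.tt, h1, h6, one_mul])) ?_
  rw [← cn_cn, e5]
  exact (s.I_small (s.I_mul hc ha.inv) h3 e6).imp (fun e => by rw [e, mul_one]) fun e => by rw [e]

theorem main : ∃ M : Subgroup P, M.Normal ∧ (∀ x y : P, (x * y)⁻¹ * (y * x) ∈ M) ∧ u ∉ M ∧ u * z ∉ M ∧
    ∀ x, x * x = 1 → x ∈ M ∨ x⁻¹ * u ∈ M := by
  obtain ⟨v, hv⟩ := s.ex'
  let A : Subgroup P :=
    { carrier := {a | Iv u t b a}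
      one_mem' := s.I_U (.inl rfl)
      mul_mem' := s.I_mul
      inv_mem' := Iv.inv }
  haveI : A.Normal := ⟨fun w hw g => by have := s.I_cn hw g⁻¹; rwa [cn_def, inv_inv] at this⟩
  let π := QuotientGroup.mk' A
  have hπ : ∀ x y, Iv u t b (x⁻¹ * y) → π x = π y := fun x y h => QuotientGroup.eq.2 h
  have c1 : ∀ g, cn g (π v) = π v := fun g => by
    obtain ⟨g, rfl⟩ := QuotientGroup.mk'_surjective A g
    rw [← cn_map]; exact (hπ _ _ (by rw [inv_of_sq (s.Zi v hv.1)]; exact s.vg hv g)).symm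
  have c2 : ∀ g, cn g (π t) = π t := fun g => by
    obtain ⟨g, rfl⟩ := QuotientGroup.mk'_surjective A g
    rw [← cn_map]; exact (hπ _ _ (by rw [s.ti]; exact s.tg g)).symm
  let K := K4 (u := π v) (z := π t) (by rw [← map_mul, s.Zi v hv.1, map_one]) (by rw [← map_mul, s.tt, map_one])
    (cn_iff.1 (c2 _))
  haveI : K.Normal := ⟨fun w hw g => by
    rw [show g * w * g⁻¹ = cn g⁻¹ w by rw [cn_def, inv_inv]]
    rcases hw with rfl | rfl | rfl | rfl <;> simp [K, K4, InU, c1, c2]⟩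
  have hA : ∀ a, Iv u t b a → a ∈ K.comap π := fun a h => .inl ((QuotientGroup.eq_one_iff (N := A) a).2 h)
  have hC : ∀ a, C1 u b a → a ∈ K.comap π → Iv u t b a := fun a h h1 => by
    have key : ∀ k, π a = π k → C1 u b k := fun k e => by
      simpa using h.mul (QuotientGroup.eq.1 e : Iv u t b (a⁻¹ * k)).1
    rcases h1 with e | e | e | e
    · exact (QuotientGroup.eq_one_iff (N := A) a).1 e
    · exact absurd (key t e).1 s.ntu
    · exact absurd (key v e).2 (s.nC hv)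
    · exact absurd (by simpa [s.vv hv.1] using hv.2.2.mul_left (key (v * t) (by rw [e, map_mul])).1) s.ntu
  have hv' : v ∈ K.comap π := .inr (.inr (.inl rfl))
  have ht' : t ∈ K.comap π := .inr (.inl rfl)
  have hz := hA z (s.I_U (.inr rfl))
  have hu : u ∉ K.comap π := fun h => s.ne_z u (by
    have := (hC u (s.C_U (.inr (.inr (.inl rfl)))) h).2
    rw [s.tu, inv_of_sq s.uu] at this; exact this.symm)
  have hM : (K.comap π).Normal := inferInstance
  generalize K.comap π = M at *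
  let φ := QuotientGroup.mk' M
  have hφ : ∀ m ∈ M, φ m = 1 := fun m h => (QuotientGroup.eq_one_iff (N := M) m).2 h
  have dec : ∀ g, ∃ r, C1 u b r ∧ cn t r = r ∧ φ g = φ r := fun g => by
    obtain ⟨m, hm, e⟩ : ∃ m ∈ M, cn m t = cn g t := by
      obtain ⟨n, hn⟩ := s.gen hv _ (s.tg g)
      have hc := s.I_c0 hv
      have e1 : cn v t = t * (v * cn t v)⁻¹ := by
        rw [← hc.2, map_mul, s.ctt, cn_def, cn_def, s.ti, inv_of_sq (s.Zi v hv.1), mul_assoc t v, mul_assoc t, s.tx]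
      have e2 : ∀ a, Iv u t b a → cn a t = t * (a * a) := fun a ha => by
        rw [cn_def, mul_cn t, map_inv, ha.2, inv_inv, mul_assoc]
      rw [← s.tx (cn g t), hn]
      generalize v * cn t v = c at *
      rcases Nat.even_or_odd n with ⟨k, rfl⟩ | ⟨k, rfl⟩
      · exact ⟨c ^ k, hA _ (hc.pow k), by rw [e2 _ (hc.pow k), pow_add]⟩
      · exact ⟨v * c ^ (k + 1), mul_mem hv' (hA _ (hc.pow _)), by
          rw [← cn_cn, e1, map_mul, e2 _ (hc.pow _), cn_of (((Commute.refl c).pow_left _).inv_right)]; group⟩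
    have h1 : Commute (g * m⁻¹) t := cn_iff.1 (by rw [← cn_cn, ← e, cn_inv_cn])
    have h2 : φ g = φ (g * m⁻¹) := by rw [map_mul, hφ _ (inv_mem hm), mul_one]
    by_cases h3 : Commute (g * m⁻¹) u
    · exact ⟨_, ⟨h3, s.R_C h3 (cn_of h1.symm)⟩, cn_of h1.symm, h2⟩
    · have h4 := s.c_mul h3 s.ntu
      have h5 := cn_of (h1.mul_left (Commute.refl t)).symm
      exact ⟨_, ⟨h4, s.R_C h4 h5⟩, h5, by rw [map_mul, hφ _ ht', mul_one, h2]⟩
  refine ⟨M, hM, fun x y => QuotientGroup.eq.1 ?_, hu, fun h => hu (by simpa [s.zzr] using mul_mem h hz), fun x hx => ?_⟩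
  · obtain ⟨r, h1, h2, e⟩ := dec x
    obtain ⟨r', h3, h4, e'⟩ := dec y
    change φ (x * y) = φ (y * x)
    rw [map_mul, map_mul, e, e', ← map_mul, ← map_mul, (s.cycR h1 h3 h2 h4).eq]
  · obtain ⟨r, h1, h2, e⟩ := dec x
    obtain ⟨a, w, ha, hw, e'⟩ := s.small_R h1 (s.fix_I (hC _ (h1.mul h1) ((QuotientGroup.eq_one_iff (N := M) _).1 (by
      change φ (r * r) = 1
      rw [map_mul, ← e, ← map_mul, hx, map_one]))) (by rw [map_mul, h2]))
    rw [e', map_mul, hφ a (hA a ha), one_mul] at e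
    rcases hw with h | h | h | h <;> rw [h] at e
    · exact .inl ((QuotientGroup.eq_one_iff (N := M) x).1 (e.trans (map_one _)))
    · exact .inl ((QuotientGroup.eq_one_iff (N := M) x).1 (e.trans (hφ _ hz)))
    · exact .inr (QuotientGroup.eq.1 e)
    · exact .inr (QuotientGroup.eq.1 (e.trans (by rw [map_mul, hφ _ hz, mul_one]; rfl)))

end S3

end Cfsg.Lib.NC
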