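import Cfsg.Agent.Lib.NC.C
import Cfsg.Agent.Lib.Coprime.ActionForm
import Cfsg.Agent.Lib.Core.Frattini

/-! Nonconnected `2`-groups: a fixed point free automorphism of order three on the centraliser of `u`. -/

set_option autoImplicit false
set_option linter.unusedSectionVars false
set_option linter.style.haveILetI false

namespace Cfsg.Lib.NC

open Subgroup Cfsg.Lib.Amalg
open scoped commutatorElement

variable {Q : Type*} [Group Q] [Finite Q]

theorem ord9 (hV : IsPGroup 2 Q) (h16 : Nat.card Q ≤ 16) (σ : MulAut Q) {a : ℕ} (h : σ ^ 3 ^ a = 1) : σ ^ 3 = 1 := by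
  classical
  have : Fact (Nat.Prime 2) := ⟨Nat.prime_two⟩
  have := Fintype.ofFinite
  let F : Subgroup Q := (σ ^ 3).toMonoidHom.eqLocus (MonoidHom.id Q)
  have mF : ∀ w, w ∈ F ↔ (σ ^ 3) w = w := fun w => Iff.rfl
  have it : ∀ (n : ℕ) w, (σ • ·)^[n] w = (σ ^ n) w := fun n w => by rw [smul_iterate_apply]; rfl
  have k1 : ∀ w, w ∉ F → (MulAction.orbit (zpowers σ) w).ncard = 9 := fun w hw => by
    have e : (MulAction.orbit (zpowers σ) w).ncard = Function.minimalPeriod (σ • ·) w := by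
      rw [MulAction.minimalPeriod_eq_card, ← Nat.card_eq_fintype_card]; rfl
    have h1 : Function.minimalPeriod (σ • ·) w ∣ 3 ^ a :=
      Function.IsPeriodicPt.minimalPeriod_dvd (by rw [Function.IsPeriodicPt, Function.IsFixedPt, it, h]; rfl)
    have h2 : (MulAction.orbit (zpowers σ) w).ncard ≤ 16 := (Set.ncard_le_card _).trans h16
    have h3 : ¬ Function.minimalPeriod (σ • ·) w ∣ 3 := fun d => hw (by
      have := Function.isPeriodicPt_iff_minimalPeriod_dvd.2 d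
      rwa [Function.IsPeriodicPt, Function.IsFixedPt, it] at this)
    obtain ⟨i, -, hi⟩ := (Nat.dvd_prime_pow Nat.prime_three).1 h1
    rw [e, hi] at h2 ⊢
    rw [hi] at h3
    rcases i with _ | _ | _ | i
    · simp at h3
    · simp at h3
    · rfl
    · have := Nat.pos_of_ne_zero (pow_ne_zero i (by norm_num : (3 : ℕ) ≠ 0))
      simp only [pow_succ] at h2; omega
  have k2 : ∀ w, w ∉ F → MulAction.orbit (zpowers σ) w ⊆ (F : Set Q)ᶜ := by
    rintro w hw _ ⟨⟨_, n, rfl⟩, rfl⟩ hf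
    refine hw ((mF w).2 ((σ ^ n).injective ?_))
    have : (σ ^ 3) ((σ ^ n) w) = (σ ^ n) w := hf
    rw [← this, ← MulAut.mul_apply, ← MulAut.mul_apply, ((Commute.refl σ).zpow_left n |>.pow_right 3).eq]
  by_contra h3
  obtain ⟨v, hv⟩ : ∃ v, v ∉ F := by
    by_contra! hh
    exact h3 (MulEquiv.ext hh)
  have c := Set.ncard_add_ncard_compl (F : Set Q)
  by_cases hc : (F : Set Q)ᶜ ⊆ MulAction.orbit (zpowers σ) v
  · rw [Set.Subset.antisymm hc (k2 v hv), k1 v hv] at c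
    have d : (F : Set Q).ncard ∣ Nat.card Q := card_subgroup_dvd_card F
    obtain ⟨n, hn⟩ := IsPGroup.iff_card.1 hV
    have : n ≤ 4 := (Nat.pow_le_pow_iff_right (by norm_num : 1 < 2)).1 (hn ▸ h16)
    rw [hn] at c d
    interval_cases n <;> first | omega | (rw [show (F : Set Q).ncard = 7 by omega] at d; omega)
  obtain ⟨w, hw, hw'⟩ := Set.not_subset.1 hc
  have d := (MulAction.orbit.eq_or_disjoint (G := zpowers σ) v w).resolve_left fun e =>
    hw' (e ▸ MulAction.mem_orbit_self w)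
  have := Set.ncard_le_card (MulAction.orbit (zpowers σ) v ∪ MulAction.orbit (zpowers σ) w)
  rw [Set.ncard_union_eq d, k1 v hv, k1 w hw] at this
  omega

theorem ord3 (hQ : IsPGroup 2 Q) (h16 : PRankLE 2 4 (Q ⧸ frattini Q)) (σ : MulAut Q) {a : ℕ} (h : σ ^ 3 ^ a = 1) :
    σ ^ 3 = 1 := by
  have : Fact (Nat.Prime 2) := ⟨Nat.prime_two⟩
  have hinv : ∀ a : MulAut Q, ∀ x ∈ frattini Q, (MonoidHom.id (MulAut Q)) a x ∈ frattini Q :=
    fun a y hy => characteristic_iff_map_le.mp inferInstance a ⟨y, hy, rfl⟩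
  have c : Nat.card (Q ⧸ frattini Q) ≤ 16 := by
    have := h16 ⊤ ⟨⟨fun ⟨x, _⟩ ⟨y, _⟩ => Subtype.ext (by
      obtain ⟨x, rfl⟩ := QuotientGroup.mk_surjective x
      obtain ⟨y, rfl⟩ := QuotientGroup.mk_surjective y
      refine QuotientGroup.eq.2 (Core.commutator_le_frattini_of_isPGroup hQ ?_)
      exact (show ⁅y⁻¹, x⁻¹⁆ = (x * y)⁻¹ * (y * x) by rw [commutatorElement_def]; group) ▸
        commutator_mem_commutator (mem_top _) (mem_top _))⟩⟩ fun x _ => by
      obtain ⟨x, rfl⟩ := QuotientGroup.mk_surjective x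
      exact (QuotientGroup.eq_one_iff _).2 (Core.pow_mem_frattini_of_isPGroup hQ x)
    rwa [card_top] at this
  have h1 := ord9 (hQ.to_quotient _) c (Coprime.quotAut _ _ hinv σ) (a := a) (by rw [← map_pow, h, map_one])
  refine Coprime.aut_eq_one_of_frattini (Coprime.coprime_card_of_isPGroup (hQ.to_subgroup _) ?_)
    ((Coprime.mem_ker_quotAut _ _ hinv _).1 ((map_pow _ σ 3).trans h1))
  exact Nat.Coprime.coprime_dvd_left (orderOf_dvd_of_pow_eq_one (n := 3 ^ a) (by rw [← pow_mul, mul_comm, pow_mul, h, one_pow]))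
    (Nat.Coprime.pow_left _ (by norm_num))

structure T (τ θ : MulAut Q) (z : Q) : Prop where
  pg : IsPGroup 2 Q
  tt : ∀ x, τ (τ x) = x
  zz : z * z = 1
  zc : ∀ g, Commute g z
  tz : τ z = z
  iso : ∀ x, x * x = 1 → τ x = x → x = 1 ∨ x = z
  t3 : ∀ x, θ (θ (θ x)) = x
  tθ : ∀ x, τ (θ x) = θ (θ (τ x))
  θz : θ z ≠ z

namespace T
variable {τ θ : MulAut Q} {z x y r : Q} (s : T τ θ z)
include s

theorem z1 : z ≠ 1 := fun e => s.θz (by rw [e, map_one])
theorem zzr (x : Q) : x * z * z = x := by rw [mul_assoc, s.zz, mul_one]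
theorem ne_z (x : Q) : x ≠ x * z := fun e => s.z1 (by simpa using e)
theorem fpf : MonoidHom.FixedPointFree θ := fun x hx => by
  have k : ∀ y, θ y = y → τ y = y⁻¹ → y = 1 := fun y h1 h2 => by
    by_contra h
    obtain ⟨j, h3, h4⟩ := pw2 s.pg h
    have := (s.iso _ h4 (by rw [map_pow, h2, inv_pow, inv_of_sq h4])).resolve_left h3
    exact s.θz (by rw [← this, map_pow, h1])
  by_contra h
  obtain ⟨j, h3, h4⟩ := pw2 s.pg h
  have h5 : θ (x ^ 2 ^ j) = x ^ 2 ^ j := by rw [map_pow, hx]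
  generalize x ^ 2 ^ j = y at *
  have h6 : θ (τ y) = τ y := by
    have := s.tθ y
    rw [h5] at this
    nth_rw 1 [this]; rw [s.t3]
  have h7 := k (y * τ y) (by rw [map_mul, h5, h6]) (by rw [map_mul, s.tt, mul_inv_rev, ← map_inv, inv_of_sq h4])
  exact h3 (k y h5 (eq_inv_of_mul_eq_one_right h7))
theorem prod (x : Q) : x * (θ x * θ (θ x)) = 1 := by
  simpa [List.range_succ] using s.fpf.prod_pow_eq_one (n := 3) (funext s.t3) x
theorem θθ (x : Q) : θ (θ x) = (x * θ x)⁻¹ := eq_inv_of_mul_eq_one_right (by rw [mul_assoc, s.prod])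
theorem cθ (x : Q) : Commute x (θ x) := by
  have h1 := s.θθ x⁻¹
  rw [map_inv, map_inv, s.θθ, inv_inv, mul_inv_rev, inv_inv, inv_inv] at h1
  exact h1
theorem e1 (x g : Q) : Commute x (cn g (θ x)) := by
  obtain ⟨h, e⟩ := s.fpf.commutatorMap_surjective g⁻¹
  have := (s.cθ (cn h x)).map (cn h⁻¹)
  rw [cn_inv_cn, show θ (cn h x) = cn (θ h) (θ x) from cn_map θ.toMonoidHom h x, cn_cn] at this
  rwa [show g = θ h * h⁻¹ by rw [← inv_inv g, ← e]; simp [div_eq_mul_inv]]
theorem eng (x g : Q) : Commute x (cn g x) := by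
  have h1 := (s.e1 (θ (θ x)) g⁻¹).map (cn g)
  rw [s.t3, cn_cn_inv] at h1
  have h2 : x = (θ x * θ (θ x))⁻¹ := eq_inv_of_mul_eq_one_left (s.prod x)
  nth_rw 2 [h2]
  rw [map_inv, map_mul]
  exact ((s.e1 x g).mul_right h1.symm).inv_right
theorem uc (g : Q) : Commute g (θ z) := by
  have := (s.zc (θ.symm g)).map θ
  rwa [θ.apply_symm_apply] at this
theorem uu : θ z * θ z = 1 := by rw [← map_mul, s.zz, map_one]
theorem θu : θ (θ z) = θ z * z := by rw [s.θθ, mul_inv_rev, inv_of_sq s.uu, inv_of_sq s.zz]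
theorem tu : τ (θ z) = θ z * z := by rw [s.tθ, s.tz, s.θu]
theorem R0 (h : x * x = 1) (h1 : ∃ g, ¬ Commute g x) : cn (τ x) x = x * z := by
  have hy : τ x * τ x = 1 := by rw [← map_mul, h, map_one]
  have e : x * τ x * (x * τ x) = x * cn (τ x) x := by rw [cn_def, inv_of_sq hy]; group
  have c := s.eng x (τ x)
  have i1 : τ (x * τ x) = (x * τ x)⁻¹ := by rw [map_mul, s.tt, mul_inv_rev, ← map_inv, inv_of_sq h]
  have h4 : x * cn (τ x) x * (x * cn (τ x) x) = 1 := by rw [c.symm.mul_mul_mul_comm, h, ← map_mul, h, map_one, one_mul]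
  have hx : ∀ a b, x * a = b → a = x * b := fun a b e => by rw [← e, ← mul_assoc, h, one_mul]
  rcases s.iso _ h4 (by rw [← e, map_mul, i1, ← mul_inv_rev, e, inv_of_sq h4]) with e1 | e1
  · exfalso
    obtain ⟨g, hg⟩ := h1
    rw [e1] at e
    rcases s.iso _ e (i1.trans (inv_of_sq e)) with e2 | e2
    · rcases s.iso x h (by simpa using hx _ _ e2) with rfl | rfl
      exacts [hg (Commute.one_right g), hg (s.zc g)]
    · have e3 : x * θ z * (x * θ z) = 1 := by rw [(s.uc x).symm.mul_mul_mul_comm, h, s.uu, one_mul]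
      have e4 : ∀ b, x * θ z = b → x = b * θ z := fun b e => by rw [← e, mul_assoc, s.uu, mul_one]
      rcases s.iso _ e3 (by rw [map_mul, hx _ _ e2, s.tu, (s.zc _).symm.mul_mul_mul_comm, s.zz, mul_one]) with e5 | e5
      · exact hg (e4 _ e5 ▸ (Commute.one_right g).mul_right (s.uc g))
      · exact hg (e4 _ e5 ▸ (s.zc g).mul_right (s.uc g))
  · exact hx _ _ e1

theorem R_cn (h : τ x = x) (h2 : x * x = z) (hr : τ r = r) : cn r x = x ∨ cn r x = x * z := by
  have c := s.eng x r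
  have h3 : x * cn r x * (x * cn r x) = 1 := by
    rw [c.symm.mul_mul_mul_comm, ← map_mul, h2, cn_of (s.zc r), s.zz]
  have h4 : x⁻¹ = x * z := inv_eq_of_mul_eq_one_right (by rw [← mul_assoc, h2, s.zz])
  rcases s.iso _ h3 (by rw [map_mul, show τ (cn r x) = cn (τ r) (τ x) from cn_map τ.toMonoidHom r x, h, hr]) with e | e
  · exact .inr (h4 ▸ eq_inv_of_mul_eq_one_right e)
  · exact .inl (by rw [eq_inv_mul_of_mul_eq e, h4, s.zzr])

theorem cardR (hx : τ x = x) (hy : τ y = y) (x2 : x * x = z) (y2 : y * y = z) (h : cn y x = x * z) :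
    Nat.card (τ.toMonoidHom.eqLocus (MonoidHom.id Q)) ≤ 8 := by
  have nc : ¬ Commute y x := fun c => s.ne_z x ((cn_of c).symm.trans h)
  have h' : cn x y = y * z := (s.R_cn hy y2 hx).resolve_left fun e => nc (cn_iff.1 e).symm
  have k : ∀ r, τ r = r → cn r x = x → cn r y = y → r = 1 ∨ r = z := fun r hr h1 h2 => by
    refine s.iso r (by_contra fun h3 => ?_) hr
    obtain ⟨j, h4, h5⟩ := pw4 s.pg h3
    have h6 : τ (r ^ 2 ^ j) = r ^ 2 ^ j := by rw [map_pow, hr]
    have h7 := (cn_iff.1 h1).pow_left (2 ^ j)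
    have h8 := (cn_iff.1 h2).pow_left (2 ^ j)
    generalize r ^ 2 ^ j = e at *
    have h9 := (s.iso _ h5 (by rw [map_mul, h6])).resolve_left h4
    have : Commute (e * x) y := by
      rcases s.iso (e * x) (by rw [h7.symm.mul_mul_mul_comm, h9, x2, s.zz]) (by rw [map_mul, h6, hx]) with e1 | e1 <;> rw [e1]
      exacts [Commute.one_left y, (s.zc y).symm]
    exact nc (by simpa using (h8.inv_left.mul_left this).symm)
  have cx : cn x x = x := cn_of (Commute.refl x)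
  have cy : cn y y = y := cn_of (Commute.refl y)
  have cz : ∀ g, cn g z = z := fun g => cn_of (s.zc g)
  let F : Fin 2 × Fin 4 → Q := fun c => ![1, z] c.1 * (![1, x, y, x * y] c.2)⁻¹
  have k2 : ∀ r (i : Fin 4), (r * ![1, x, y, x * y] i = 1 ∨ r * ![1, x, y, x * y] i = z) → r ∈ Set.range F := by
    rintro r i (e | e)
    exacts [⟨(0, i), (eq_mul_inv_of_mul_eq e).symm⟩, ⟨(1, i), (eq_mul_inv_of_mul_eq e).symm⟩]
  have : ((τ.toMonoidHom.eqLocus (MonoidHom.id Q) : Subgroup Q) : Set Q) ⊆ Set.range F := fun r (hr : τ r = r) => by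
    rcases s.R_cn hx x2 hr with e1 | e1 <;> rcases s.R_cn hy y2 hr with e2 | e2
    · exact k2 r 0 (k (r * 1) (by rwa [mul_one]) (by rwa [mul_one]) (by rwa [mul_one]))
    · exact k2 r 1 (k (r * x) (by rw [map_mul, hr, hx]) (by rw [← cn_cn, e1, cx])
        (by rw [← cn_cn, e2, map_mul, h', cz, s.zzr]))
    · exact k2 r 2 (k (r * y) (by rw [map_mul, hr, hy]) (by rw [← cn_cn, e1, map_mul, h, cz, s.zzr])
        (by rw [← cn_cn, e2, cy]))
    · exact k2 r 3 (k (r * (x * y)) (by rw [map_mul, map_mul, hr, hx, hy])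
        (by rw [← cn_cn, ← cn_cn, e1, map_mul, cx, cz, map_mul, h, cz, s.zzr])
        (by rw [← cn_cn, ← cn_cn, e2, map_mul, h', cz, s.zzr, cy]))
  refine (Set.ncard_le_ncard this).trans ?_
  rw [← Set.image_univ]
  refine (Set.ncard_image_le).trans ?_
  simp [Set.ncard_univ]

theorem cardQ (h : Nat.card (τ.toMonoidHom.eqLocus (MonoidHom.id Q)) ≤ 8) : Nat.card Q ≤ 64 := by
  set R := τ.toMonoidHom.eqLocus (MonoidHom.id Q)
  have m : ∀ y, θ (MonoidHom.commutatorMap θ (y * (τ y)⁻¹)) ∈ R := fun y => by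
    have : τ (y * (τ y)⁻¹) = (y * (τ y)⁻¹)⁻¹ := by rw [map_mul, map_inv, s.tt, mul_inv_rev, inv_inv]
    generalize y * (τ y)⁻¹ = w at this
    change τ _ = _
    rw [MonoidHom.commutatorMap_apply, div_eq_mul_inv, map_mul, map_inv, map_mul, map_inv, s.tθ, s.tθ (θ w), s.tθ w, s.t3, this]
    simp only [map_inv, inv_inv, MonoidHom.id_apply]
    exact (s.cθ (θ w)).inv_right.eq.symm
  have i : Function.Injective fun q : Q ⧸ R => (⟨_, m q.out⟩ : R) := fun q q' e => by
    have e1 := s.fpf.commutatorMap_injective (θ.injective (congrArg Subtype.val e))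
    rw [← q.out_eq, ← q'.out_eq]
    refine QuotientGroup.eq.2 ?_
    change τ _ = _
    rw [map_mul, map_inv, MonoidHom.id_apply, eq_inv_mul_iff_mul_eq, ← mul_assoc, e1, inv_mul_cancel_right]
  rw [card_eq_card_quotient_mul_card_subgroup R]
  exact Nat.mul_le_mul ((Nat.card_le_card_of_injective _ i).trans h) h

theorem main (h : x * x = 1) (h1 : ∃ g, ¬ Commute g x) : θ x * θ x = 1 ∧ Commute x (θ x) ∧ cn (τ x) x = x * z ∧
    cn (τ (θ x)) (θ x) = θ x * z ∧ cn (τ (θ x)) x = x * θ z ∧ cn (τ x) (θ x) = θ x * (θ z * z) ∧ Nat.card Q ≤ 64 := by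
  have cθ : ∀ a b, θ (cn a b) = cn (θ a) (θ b) := cn_map θ.toMonoidHom
  have sq : ∀ (σ : MulAut Q) a, a * a = 1 → σ a * σ a = 1 := fun σ a e => by rw [← map_mul, e, map_one]
  have a2 := sq θ x h
  have b1 := sq τ x h
  have b2 := sq τ _ a2
  have r1 := s.R0 h h1
  have r2 := s.R0 a2 (let ⟨g, hg⟩ := h1; ⟨θ g, fun c => hg (by simpa using c.map θ.symm)⟩)
  have ca := s.cθ x
  have cb : Commute (τ x) (τ (θ x)) := ca.map τ
  have cz : ∀ g, cn g z = z := fun g => cn_of (s.zc g)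
  have cu : ∀ g, cn g (θ z) = θ z := fun g => cn_of (s.uc g)
  have e1 : θ (θ x) = x * θ x := by rw [s.θθ, inv_of_sq (by rw [ca.symm.mul_mul_mul_comm, h, a2, one_mul])]
  have e2 : θ (τ x) = τ x * τ (θ x) := by
    rw [← map_mul, ← e1, s.tθ, s.tθ, s.t3]
  have r3 := congrArg θ r1
  have r4 := congrArg θ r3
  simp only [cθ, map_mul] at r3 r4
  rw [← s.tθ, e1, map_mul, r2, s.θu] at r4
  have r5 : cn (τ (θ x)) x = x * θ z := by
    rw [← mul_assoc, ← mul_assoc, mul_left_inj, mul_assoc, ← (s.uc _).symm.eq, ← mul_assoc, mul_left_inj] at r4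
    exact r4
  have r6 : cn (τ x) (θ x) = θ x * (θ z * z) := by
    rw [e2, cb.eq, ← cn_cn, r2, map_mul, cz] at r3
    rw [← mul_assoc, ← r3, s.zzr]
  have sqz : ∀ a b, a * a = 1 → b * b = 1 → cn b a = a * z → a * b * θ z * (a * b * θ z) = z := fun a b ha hb e => by
    rw [(s.uc _).symm.mul_mul_mul_comm, s.uu, mul_one, show a * b * (a * b) = a * cn b a by
      rw [cn_def, inv_of_sq hb]; group, e, ← mul_assoc, ha, one_mul]
  refine ⟨a2, ca, r1, r2, r5, r6, s.cardQ (s.cardR (x := x * τ x * θ z) (y := θ x * τ (θ x) * θ z) ?_ ?_ ?_ ?_ ?_)⟩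
  · rw [map_mul, map_mul, s.tt, s.tu, mul_cn (τ x) x, r1, ← mul_assoc (τ x), mul_assoc _ z, (s.zc _).symm.eq]
  · rw [map_mul, map_mul, s.tt, s.tu, mul_cn (τ (θ x)) (θ x), r2, ← mul_assoc (τ (θ x)), mul_assoc _ z, (s.zc _).symm.eq]
  · exact sqz _ _ h b1 r1
  · exact sqz _ _ a2 b2 r2
  · have r7 := congrArg τ r5
    rw [show ∀ a b, τ (cn a b) = cn (τ a) (τ b) from cn_map τ.toMonoidHom, s.tt, map_mul, s.tu] at r7
    rw [← cn_cn, ← cn_cn, cn_of (s.uc _).symm]
    simp only [map_mul, r7, cn_of ca.symm, cu, cz, r5, cn_of cb.symm]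
    rw [(s.uc _).symm.mul_mul_mul_comm, ← mul_assoc (θ z), s.uu, one_mul, mul_assoc, ← (s.zc _).eq, ← mul_assoc]

end T

end Cfsg.Lib.NC
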