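import Cfsg.Agent.Lib.NC.D
import Cfsg.Agent.Lib.JT.Sy1
import Cfsg.Agent.Lib.Core.Nilpotent
import Cfsg.Agent.S0501

/-! Nonconnected `2`-groups: if `z` is fused to `u` the group is a Sylow `2`-subgroup of `J₂`. -/

set_option autoImplicit false
set_option linter.unusedSectionVars false
set_option linter.style.haveILetI false

namespace Cfsg.Lib.NC

open Subgroup Cfsg.Lib.Amalg

variable {P : Type*} [Group P] [Finite P] {u z t b : P}

theorem card4 (zz : z * z = 1) (zc : ∀ g, Commute g z) (un : ∀ g, cn g u = u ∨ cn g u = u * z) {A : Subgroup P}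
    (hc : ∀ x ∈ A, ∀ y ∈ A, Commute x y) (h2 : ∀ x ∈ A, x * x = 1) (h : ∀ x ∈ A, Commute x u → InU u z x) :
    Nat.card A ≤ 4 := by
  classical
  have k : ∀ a, (∀ x ∈ A, InU a z x) → Nat.card A ≤ 4 := fun a ha => by
    have : (A : Set P) ⊆ (({1, z, a, a * z} : Finset P) : Set P) := fun x hx => by simpa [InU] using ha x hx
    exact (Set.ncard_le_ncard this).trans (by rw [Set.ncard_coe_finset]; exact Finset.card_le_four)
  by_cases h1 : ∀ x ∈ A, Commute x u
  · exact k u fun x hx => h x hx (h1 x hx)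
  push Not at h1
  obtain ⟨a, ha, h1⟩ := h1
  have k1 : ∀ x ∈ A, Commute x u → x = 1 ∨ x = z := fun x hx c => by
    rcases h x hx c with e | e | e | e
    exacts [.inl e, .inr e, absurd (e ▸ hc a ha x hx) h1, absurd (by
      have := (hc a ha x hx).mul_right (zc a)
      rwa [e, mul_assoc, zz, mul_one] at this) h1]
  have nc : ∀ g, ¬ Commute g u → cn g u = u * z := fun g h => (un g).resolve_left fun e => h (cn_iff.1 e)
  refine k a fun x hx => ?_
  by_cases c : Commute x u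
  · exact (k1 x hx c).imp_right .inl
  · have e : x = a * (a * x) := by rw [← mul_assoc, h2 a ha, one_mul]
    rcases k1 _ (mul_mem ha hx) (cn_iff.1 (by
      rw [← cn_cn, nc a h1, map_mul, nc x c, cn_of (zc x), mul_assoc, zz, mul_one])) with e1 | e1 <;> rw [e1] at e
    exacts [.inr (.inr (.inl (by simpa using e))), .inr (.inr (.inr e))]

theorem St.rank (s : St u z t) : SectionalPRankLE 2 4 P :=
  Cfsg.Agent.S0501.result s.pg fun A hn hc h2 => card4 s.zz s.zc s.un
    (fun x hx y hy => congrArg Subtype.val (hc.1.1 ⟨x, hx⟩ ⟨y, hy⟩)) (fun x hx => by rw [← sq, h2 x hx]) fun x hx c => by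
      by_contra h
      exact s.c_ne (by rw [← sq, h2 x hx]) c h (by
        rw [← sq, h2 _ (mul_mem hx (by rw [cn_def]; exact hn.conj_mem' x hx t))])

theorem St.idx (s : St u z t) : (centralizer {u}).index = 2 :=
  index_eq_two_iff'.2 ⟨t, fun g => by
    simp only [mem_centralizer_singleton_iff]
    by_cases h : Commute g u
    · exact .inr ⟨h, fun e => s.ntu (by simpa using (show Commute (t * g) u from e).mul_left h.inv_left)⟩
    · exact .inl ⟨s.c_mul s.ntu h, h⟩⟩

theorem St.ext' (s : St u z t) (f : centralizer {u} →* P) (hf : Function.Injective f) {x : P} (x2 : x * x = 1)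
    (cr : ∀ g ∈ f.range, Commute g x) (g : P) : cn g x = x ∨ cn g x = x * z := by
  have ir : f.range.index = 2 := by
    have h1 := f.range.index_mul_card
    rw [← Nat.card_congr (MonoidHom.ofInjective hf).toEquiv, ← (centralizer {u}).index_mul_card, s.idx] at h1
    exact Nat.eq_of_mul_eq_mul_right Nat.card_pos h1
  exact s.ext x2 (fun g h h1 h2 => cr _ ((mul_mem_iff_of_index_two ir).2 (iff_of_false (fun e => h1 (cr _ e))
    fun e => h2 (cr _ e)))) g

theorem S2.exT (s : S2 u z t b) (f : centralizer {u} →* P) (hf : Function.Injective f)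
    (fu : ∀ x, x.1 = u → f x = z) : ∃ (τ θ : MulAut (centralizer {u})) (z' : centralizer {u}),
      T τ θ z' ∧ z'.1 = z ∧ ∀ x, (τ x).1 = cn t x := by
  have mq : ∀ {x}, x ∈ centralizer {u} ↔ Commute x u := mem_centralizer_singleton_iff
  let z' : centralizer {u} := ⟨z, mq.2 (s.zc u).symm⟩
  let u' : centralizer {u} := ⟨u, mq.2 rfl⟩
  have zc : ∀ g, Commute g z' := fun g => Subtype.ext (s.zc g)
  have zz : z' * z' = 1 := Subtype.ext s.zz
  have x2 : f z' * f z' = 1 := by rw [← map_mul, zz, map_one]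
  have cr : ∀ g ∈ f.range, Commute g (f z') := by rintro _ ⟨g, rfl⟩; exact (zc g).map f
  have hx : f z' = u ∨ f z' = u * z := by
    rcases s.ext_U x2 (by
      rw [show z' = ⟨b, mq.2 s.bu⟩ * ⟨b, mq.2 s.bu⟩ from Subtype.ext s.bb.symm, map_mul]; exact s.c_sq _)
      (s.ext' f hf x2 cr t) with e | e | e
    · exact absurd (congrArg Subtype.val (hf (e.trans (map_one f).symm))) s.z1
    · exact absurd ((show z = u from congrArg Subtype.val (hf (e.trans (fu u' rfl).symm))) ▸ s.zc t) s.ntu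
    · exact e
  have fq : ∀ g, f g ∈ centralizer {u} := fun g => mq.2 (by
    have := cr _ ⟨g, rfl⟩
    rcases hx with e | e <;> rw [e] at this
    exacts [this, by simpa [mul_assoc, s.zz] using this.mul_right (s.zc _)])
  have ki : Function.Injective (f.codRestrict _ fq) := fun x y e => hf (congrArg Subtype.val e)
  let κ : MulAut (centralizer {u}) := MulEquiv.ofBijective _ (Finite.injective_iff_bijective.1 ki)
  have : (centralizer {u}).Normal := normal_of_index_eq_two s.idx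
  let τ : MulAut (centralizer {u}) := MulAut.conjNormal t⁻¹
  have hτ : ∀ x, (τ x).1 = cn t x := fun x => rfl
  have tt : ∀ x, τ (τ x) = x := fun x => Subtype.ext (s.ctt x)
  have τ2 : τ * τ = 1 := MulEquiv.ext tt
  have tz : τ z' = z' := Subtype.ext (s.cz t)
  have tu : τ u' = u' * z' := Subtype.ext s.tu
  have κu : κ u' = z' := Subtype.ext (fu u' rfl)
  have tx : τ (κ z') = κ z' * z' := Subtype.ext (by
    change cn t (f z') = f z' * z
    rcases hx with e | e <;> rw [e]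
    exacts [s.tu, by rw [map_mul, s.tu, s.cz]])
  have x2' : κ z' * κ z' = 1 := Subtype.ext x2
  let θ0 := τ * (κ * τ * κ⁻¹)
  have a1 : θ0 z' = κ z' := by
    change τ (κ (τ (κ.symm z'))) = _
    rw [← κu, κ.symm_apply_apply, tu, map_mul, κu, map_mul, tz, tx, ← (zc _).eq, mul_assoc, zz, mul_one]
  have a2 : θ0 (κ z') = κ z' * z' := by
    change τ (κ (τ (κ.symm (κ z')))) = _
    rw [κ.symm_apply_apply, tz, tx]
  have a3 : θ0 ^ 3 ∈ MulAction.stabilizer _ z' := by
    change θ0 (θ0 (θ0 z')) = z'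
    rw [a1, a2, map_mul, a1, a2, mul_assoc, ← (zc _).eq, ← mul_assoc, x2', one_mul]
  obtain ⟨a, m, hm, e⟩ := Nat.exists_eq_pow_mul_and_not_dvd (orderOf_pos θ0).ne' 3 (by norm_num)
  have h3 : (θ0 ^ m) ^ 3 = 1 := ord3 (s.pg.to_subgroup _) (s.rank _ _) _ (a := a) (by
    rw [← pow_mul, mul_comm, ← e, pow_orderOf_eq_one])
  have i0 : τ * θ0 * τ⁻¹ = θ0⁻¹ := by
    refine eq_inv_of_mul_eq_one_left ?_
    rw [inv_of_sq τ2]
    simp only [θ0, ← mul_assoc, τ2, one_mul]
    rw [mul_assoc _ τ τ, τ2, mul_one, inv_mul_cancel_right, mul_assoc κ, τ2, mul_one, mul_inv_cancel]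
  have i1 : τ * θ0 ^ m = θ0 ^ m * θ0 ^ m * τ := by
    rw [← mul_inv_eq_iff_eq_mul, ← conj_pow, i0, inv_pow]
    exact inv_eq_of_mul_eq_one_left (by rw [← h3, pow_three'])
  refine ⟨τ, θ0 ^ m, z', ⟨s.pg.to_subgroup _, tt, zz, zc, tz, fun x h1 h2 => (s.iso x (congrArg Subtype.val h1)
    (congrArg Subtype.val h2) (mq.1 x.2)).imp Subtype.ext Subtype.ext, fun x => ?_, fun x => ?_, fun h => ?_⟩, rfl, hτ⟩
  · have := MulEquiv.congr_fun h3 x
    rwa [pow_three] at this
  · exact MulEquiv.congr_fun i1 x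
  · have h1 : θ0 ^ m ∈ MulAction.stabilizer _ z' := h
    have h2 : θ0 ∈ MulAction.stabilizer _ z' := by
      rw [← Nat.div_add_mod m 3, pow_add, pow_mul, mul_mem_cancel_left (pow_mem a3 _)] at h1
      obtain e | e : m % 3 = 1 ∨ m % 3 = 2 := by omega
      · simpa [e] using h1
      · rw [e] at h1
        rwa [← mul_mem_cancel_left h1, ← pow_succ]
    have h3 : κ z' = κ u' := by rw [← a1, κu]; exact h2
    exact s.ntu ((show z = u from congrArg Subtype.val (κ.injective h3)) ▸ s.zc t)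

theorem card_ins {X : Type*} [Group X] [Finite X] {S : Set X} {g : X} {n : ℕ} (h0 : Nat.card (closure S) ≤ n)
    (h1 : g * g = 1) (h2 : ∀ x ∈ S, cn g x ∈ closure S) : Nat.card (closure (insert g S)) ≤ 2 * n := by
  have h3 : ∀ x ∈ closure S, cn g x ∈ closure S := fun x hx =>
    (closure_le ((closure S).comap (cn g))).2 h2 hx
  let K : Subgroup X :=
    { carrier := {x | x ∈ closure S ∨ g * x ∈ closure S}
      one_mem' := .inl (one_mem _)
      mul_mem' := by
        rintro x y (hx | hx) (hy | hy)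
        · exact .inl (mul_mem hx hy)
        · exact .inr (by simpa [cn_def, inv_of_sq h1, mul_assoc, ← mul_assoc g g, h1] using mul_mem (h3 x hx) hy)
        · exact .inr (by simpa [mul_assoc] using mul_mem hx hy)
        · exact .inl (by simpa [cn_def, inv_of_sq h1, mul_assoc, ← mul_assoc g g, h1] using mul_mem (h3 _ hx) hy)
      inv_mem' := by
        rintro x (hx | hx)
        · exact .inl (inv_mem hx)
        · exact .inr (by simpa [cn_def, inv_of_sq h1, mul_assoc, ← mul_assoc g g, h1] using h3 _ (inv_mem hx)) }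
  have h4 : closure (insert g S) ≤ K := (closure_le _).2 (Set.insert_subset (.inr (h1 ▸ one_mem _))
    fun x hx => .inl (subset_closure hx))
  have h5 : (K : Set X) ⊆ closure S ∪ (g * ·) '' closure S := by
    rintro x (hx | hx)
    exacts [.inl hx, .inr ⟨_, hx, by simp [← mul_assoc, h1]⟩]
  have h6 : ((closure S : Subgroup X) : Set X).ncard ≤ n := h0
  have h7 := Set.ncard_image_le (f := (g * ·)) (s := ((closure S : Subgroup X) : Set X))
  exact (Set.ncard_le_ncard (h4.trans' le_rfl)).trans ((Set.ncard_le_ncard h5).trans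
    ((Set.ncard_union_le _ _).trans (by omega)))

structure Rel {X : Type*} [Group X] (z u a a' t : X) : Prop where
  zz : z * z = 1
  uu : u * u = 1
  aa : a * a = 1
  aa' : a' * a' = 1
  tt : t * t = 1
  zc : ∀ g, cn g z = z
  au : cn a u = u
  au' : cn a' u = u
  tu : cn t u = u * z
  c : cn a' a = a
  r1 : cn (cn t a) a = a * z
  r2 : cn (cn t a') a' = a' * z
  r3 : cn (cn t a') a = a * u
  r4 : cn (cn t a) a' = a' * (u * z)

theorem Rel.card {X : Type*} [Group X] [Finite X] {z u a a' t : X} (r : Rel z u a a' t) :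
    Nat.card (closure {t, cn t a', cn t a, a', a, u, z}) ≤ 128 := by
  have m : ∀ {S : Set X} {x}, x ∈ S → x ∈ closure S := fun h => subset_closure h
  have ct : ∀ x, cn t (cn t x) = x := fun x => by rw [cn_cn, r.tt, cn_one]
  have sq : ∀ x, x * x = 1 → cn t x * cn t x = 1 := fun x e => by rw [← map_mul, e, map_one]
  have bu : ∀ x, cn x u = u → cn (cn t x) u = u := fun x e => by
    rw [← ct u, ← cn_map, r.tu, map_mul, e, r.zc]
  have h0 : Nat.card (closure (∅ : Set X)) ≤ 1 := by simp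
  have h1 := card_ins h0 r.zz (by simp)
  rw [← Set.singleton_def] at h1
  have h2 := card_ins h1 r.uu (by simp [r.zc, m])
  have h3 := card_ins h2 r.aa (by simp [r.zc, r.au, m])
  have h4 := card_ins h3 r.aa' (by simp [r.zc, r.au', r.c, m])
  have h5 := card_ins h4 (sq _ r.aa) (by
    simp [r.zc, bu _ r.au, r.r1, r.r4, m, mul_mem]
    exact mul_mem (m (by simp)) (mul_mem (m (by simp)) (m (by simp))))
  have h6 := card_ins h5 (sq _ r.aa') (by simp [r.zc, bu _ r.au', r.r2, r.r3, m, mul_mem, ← cn_map, r.c])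
  exact card_ins h6 r.tt (by simp [r.zc, r.tu, ct, m, mul_mem])

open JT.Sy in
theorem relT : Rel JT.Sy.z JT.Sy.u a a' p := by
  constructor <;> (try simp only [cn_def]) <;> decide +kernel

open JT.Sy in
theorem genT : ∀ k : TT, ∃ c : Bool × Bool × Bool × Bool × Bool × Bool × Bool,
    k = pw c.1 JT.Sy.z * (pw c.2.1 JT.Sy.u * (pw c.2.2.1 a * (pw c.2.2.2.1 a' * (pw c.2.2.2.2.1 (p⁻¹ * a * p) *
      (pw c.2.2.2.2.2.1 (p⁻¹ * a' * p) * pw c.2.2.2.2.2.2 p))))) := by decide +kernel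

theorem Rel.hom {a a' : P} (r : Rel z u a a' t) (z1 : z ≠ 1) : ∃ ψ : JT.Sy.TT →* P, Function.Injective ψ := by
  have : Fact (Nat.Prime 2) := ⟨Nat.prime_two⟩
  have : Finite JT.Sy.TT := Nat.finite_of_card_ne_zero (by rw [JT.Sy.card_TT]; norm_num)
  have q := relT
  have r' : Rel (JT.Sy.z, z) (JT.Sy.u, u) (JT.Sy.a, a) (JT.Sy.a', a') (JT.Sy.p, t) :=
    ⟨Prod.ext q.zz r.zz, Prod.ext q.uu r.uu, Prod.ext q.aa r.aa, Prod.ext q.aa' r.aa', Prod.ext q.tt r.tt,
      fun g => Prod.ext (q.zc g.1) (r.zc g.2), Prod.ext q.au r.au, Prod.ext q.au' r.au', Prod.ext q.tu r.tu,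
      Prod.ext q.c r.c, Prod.ext q.r1 r.r1, Prod.ext q.r2 r.r2, Prod.ext q.r3 r.r3, Prod.ext q.r4 r.r4⟩
  have c := r'.card
  generalize hΓ : Subgroup.closure (G := JT.Sy.TT × P) _ = Γ at c
  have m : ∀ x ∈ ({(JT.Sy.p, t), cn (JT.Sy.p, t) (JT.Sy.a', a'), cn (JT.Sy.p, t) (JT.Sy.a, a), (JT.Sy.a', a'),
    (JT.Sy.a, a), (JT.Sy.u, u), (JT.Sy.z, z)} : Set _), x ∈ Γ := fun x hx => hΓ ▸ subset_closure hx
  let π := (MonoidHom.fst _ _).comp Γ.subtype
  have m' : ∀ x ∈ Γ, x.1 ∈ π.range := fun x hx => ⟨⟨x, hx⟩, rfl⟩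
  simp only [Set.mem_insert_iff, Set.mem_singleton_iff, forall_eq_or_imp, forall_eq] at m
  obtain ⟨m1, m2, m3, m4, m5, m6, m7⟩ := m
  have hs : Function.Surjective π := fun k => by
    obtain ⟨c, rfl⟩ := genT k
    have pm := @JT.Sy.pw_mem π.range
    exact mul_mem (pm (m' _ m7) _) (mul_mem (pm (m' _ m6) _) (mul_mem (pm (m' _ m5) _) (mul_mem (pm (m' _ m4) _)
      (mul_mem (pm (by simpa [cn_def] using m' _ m3) _) (mul_mem (pm (by simpa [cn_def] using m' _ m2) _) (pm (m' _ m1) _))))))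
  let e := MulEquiv.ofBijective π (hs.bijective_of_nat_card_le (by rwa [JT.Sy.card_TT]))
  let ψ := ((MonoidHom.snd _ _).comp Γ.subtype).comp e.symm.toMonoidHom
  have hz : ψ JT.Sy.z = z := by
    change (e.symm (e ⟨_, m7⟩)).1.2 = z
    rw [e.symm_apply_apply]
  refine ⟨ψ, (MonoidHom.ker_eq_bot_iff ψ).1 (by_contra fun h => ?_)⟩
  have := (IsPGroup.of_card (p := 2) (n := 7) JT.Sy.card_TT).isNilpotent
  obtain ⟨⟨k, hk⟩, k1⟩ := ne_bot_iff_exists_ne_one.1 (Core.inf_center_ne_bot_of_normal _ h)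
  have hc := fun g => (mem_center_iff.1 hk.2 g).symm
  rcases JT.Sy.cen_z k (hc _) (hc _) (hc _) (hc _) with rfl | rfl
  exacts [k1 rfl, z1 (hz.symm.trans hk.1)]

theorem S2.isoT (s : S2 u z t b) (f : centralizer {u} →* P) (hf : Function.Injective f)
    (fu : ∀ x, x.1 = u → f x = z) : ∃ ψ : JT.Sy.TT →* P, Function.Bijective ψ := by
  have mq : ∀ {x}, x ∈ centralizer {u} ↔ Commute x u := mem_centralizer_singleton_iff
  obtain ⟨τ, θ, z', h, rfl, hτ⟩ := s.exT f hf fu
  obtain ⟨x, x2, xu, hx⟩ := s.ex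
  have x2' : (⟨x, mq.2 xu⟩ : centralizer {u}) * ⟨x, mq.2 xu⟩ = 1 := Subtype.ext x2
  obtain ⟨h1, h2, h3, h4, h5, h6, h7⟩ := h.main x2' ⟨τ ⟨x, mq.2 xu⟩, fun c => s.c_ne x2 xu hx (by
    have : Commute (cn t x) x := hτ ⟨x, mq.2 xu⟩ ▸ c.map (centralizer {u}).subtype
    rw [this.mul_mul_mul_comm, ← map_mul, x2, map_one, one_mul])⟩
  generalize (⟨x, mq.2 xu⟩ : centralizer {u}) = y at *
  have cv : ∀ {a b c : centralizer {u}}, cn a b = c → cn a.1 b.1 = c.1 := fun e =>
    (cn_map (centralizer {u}).subtype _ _).symm.trans (congrArg Subtype.val e)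
  have r : Rel z'.1 (θ z').1 y.1 (θ y).1 t := ⟨s.zz, congrArg Subtype.val h.uu, congrArg Subtype.val x2',
    congrArg Subtype.val h1, s.tt, s.cz, cv (cn_of (h.uc _)), cv (cn_of (h.uc _)),
    (hτ _).symm.trans (congrArg Subtype.val h.tu), cv (cn_of h2.symm), hτ _ ▸ cv h3, hτ _ ▸ cv h4, hτ _ ▸ cv h5,
    hτ _ ▸ cv h6⟩
  obtain ⟨ψ, hψ⟩ := r.hom s.z1
  have : Finite JT.Sy.TT := Finite.of_injective _ hψ
  refine ⟨ψ, hψ.bijective_of_nat_card_le ?_⟩
  rw [JT.Sy.card_TT, ← (centralizer {u}).index_mul_card, s.idx]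
  omega

end Cfsg.Lib.NC
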