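import Cfsg.Agent.Lib.NC.E
import Cfsg.Agent.S1337
import Cfsg.Agent.Lib.Invol.Sylow2

/-! Nonconnected `2`-groups: from the hypothesis to the configuration. -/

set_option autoImplicit false
set_option linter.unusedSectionVars false
set_option linter.style.haveILetI false

namespace Cfsg.Lib.NC

open Subgroup Cfsg.Lib.Amalg

variable {P : Type*} [Group P] [Finite P] {u z t b : P}

theorem K4_klein (uu : u * u = 1) (zz : z * z = 1) (c : Commute u z) (z1 : z ≠ 1) (u1 : u ≠ 1) (uz : u ≠ z) :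
    IsKleinFour (K4 uu zz c) := by
  classical
  have e : (K4 uu zz c : Set P) = ({1, z, u, u * z} : Finset P) := by ext x; simp [K4, InU]
  have h1 : u * z ≠ 1 := fun e => uz (by rw [eq_inv_of_mul_eq_one_left e, inv_of_sq zz])
  have h4 : Nat.card (K4 uu zz c) = 4 := by
    change (K4 uu zz c : Set P).ncard = 4
    rw [e, Set.ncard_coe_finset, Finset.card_insert_of_notMem (by simp [z1.symm, u1.symm, h1.symm]),
      Finset.card_insert_of_notMem (by simp [uz.symm, u1]), Finset.card_pair (by simp [z1])]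
  have : Nontrivial (K4 uu zz c) := Finite.one_lt_card_iff_nontrivial.1 (by omega)
  refine ⟨h4, (Monoid.exponent_eq_prime_iff Nat.prime_two).2 fun ⟨x, hx⟩ h => orderOf_eq_prime (Subtype.ext ?_) h⟩
  change x ^ 2 = 1
  rw [sq]
  rcases hx with rfl | rfl | rfl | rfl
  exacts [one_mul 1, zz, uu, by rw [c.symm.mul_mul_mul_comm, uu, zz, one_mul]]

theorem exists_St (hP : IsPGroup 2 P) (h3 : ¬ PRankLE 2 2 P) (h : ¬ IsFourConnected P) : ∃ u z t : P, St u z t := by
  classical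
  have : Fact (Nat.Prime 2) := ⟨Nat.prime_two⟩
  obtain ⟨U, hn, ⟨hc, h2⟩, h4, -⟩ := Cfsg.Agent.S1337.result 2 hP h3
  have := hP.isNilpotent
  obtain ⟨⟨z, hz, hz'⟩, z1⟩ := ne_bot_iff_exists_ne_one.1 (Core.inf_center_ne_bot_of_normal U fun e => by simp [e] at h4)
  have z1 : z ≠ 1 := fun e => z1 (Subtype.ext e)
  have zc : ∀ g, Commute g z := mem_center_iff.1 hz'
  obtain ⟨u, hu, u1, uz⟩ : ∃ u ∈ U, u ≠ 1 ∧ u ≠ z := by
    by_contra! hh
    have : (U : Set P) ⊆ (({1, z} : Finset P) : Set P) := fun x hx => by simpa [or_iff_not_imp_left] using hh x hx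
    have h5 : (U : Set P).ncard ≤ 2 :=
      (Set.ncard_le_ncard this).trans (by rw [Set.ncard_coe_finset]; exact Finset.card_le_two)
    have h6 : (U : Set P).ncard = 2 ^ 2 := h4
    omega
  have zz : z * z = 1 := by rw [← sq, h2 z hz]
  have uu : u * u = 1 := by rw [← sq, h2 u hu]
  have k := K4_klein uu zz (zc u) z1 u1 uz
  have e : K4 uu zz (zc u) = U := eq_of_le_of_card_ge (by
    rintro x (rfl | rfl | rfl | rfl)
    exacts [one_mem _, hz, hu, mul_mem hu hz]) (by rw [h4, k.card_four]; norm_num)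
  have un : ∀ g, cn g u = u ∨ cn g u = u * z := fun g => by
    have : cn g u ∈ K4 uu zz (zc u) := by rw [e, cn_def]; exact hn.conj_mem' u hu g
    rcases this with e | e | e
    exacts [absurd (cn_inj g (e.trans (map_one _).symm)) u1, absurd (cn_inj g (e.trans (cn_of (zc g)).symm)) uz, e]
  set R := fun A B : Subgroup P => IsKleinFour A ∧ IsKleinFour B ∧ ∀ a ∈ A, ∀ b ∈ B, a * b = b * a
  obtain ⟨X, hX, hX'⟩ : ∃ X : Subgroup P, IsKleinFour X ∧ ¬ Relation.ReflTransGen R X (K4 uu zz (zc u)) := by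
    by_contra! hh
    have : Std.Symm R := ⟨fun A B h => ⟨h.2.1, h.1, fun a ha b hb => (h.2.2 b hb a ha).symm⟩⟩
    exact h fun A B hA hB => (hh A hA).trans (Relation.ReflTransGen.stdSymm.symm _ _ (hh B hB))
  have ck : ∀ {a x : P} (aa : a * a = 1), Commute x a → ∀ w ∈ K4 aa zz (zc a), Commute x w := by
    rintro a x aa c w (rfl | rfl | rfl | rfl)
    exacts [Commute.one_right _, zc _, c, c.mul_right (zc _)]
  obtain ⟨t, ht, tu⟩ : ∃ t ∈ X, ¬ Commute t u := by
    by_contra! hh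
    exact hX' (.single ⟨hX, k, fun a ha => ck uu (hh a ha)⟩)
  have xx : ∀ a ∈ X, a * a = 1 := fun a ha => congrArg Subtype.val (IsKleinFour.mul_self (⟨a, ha⟩ : X))
  have tt := xx t ht
  have tu' := (un t).resolve_left fun e => tu (cn_iff.1 e)
  refine ⟨u, z, t, hP, uu, tt, zz, z1, zc, un, tu', fun x x2 h5 h6 => by_contra fun h7 => hX' ?_, by_contra fun hh => h3 ?_⟩
  · have k1 := K4_klein tt zz (zc t) z1 (fun e => tu (e ▸ Commute.one_left u)) (fun e => tu (e ▸ (zc u).symm))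
    have k2 := K4_klein x2 zz (zc x) z1 (fun e => h7 (.inl e)) (fun e => h7 (.inr e))
    refine ((Relation.ReflTransGen.single ⟨hX, k1, fun a ha => ck tt ?_⟩).tail ⟨k1, k2, fun a ha => ck x2 ?_⟩).tail
      ⟨k2, k, fun a ha => ck uu (ck x2 h6.symm a ha).symm⟩
    · rw [Commute, SemiconjBy, ← inv_of_sq (xx _ (mul_mem ha ht)), mul_inv_rev, inv_of_sq tt, inv_of_sq (xx a ha)]
    · exact (ck tt (cn_iff.1 h5).symm a ha).symm
  · intro A hc h2
    refine card4 zz zc un (fun x hx y hy => congrArg Subtype.val (hc.1.1 ⟨x, hx⟩ ⟨y, hy⟩))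
      (fun x hx => by rw [← sq, h2 x hx]) fun x hx c => by_contra fun h => hh ⟨x, by rw [← sq, h2 x hx], c, h⟩

variable {G : Type*} [Group G] [Finite G] {S : Sylow 2 G}

theorem syl_rank (S : Sylow 2 G) (h : PRankLE 2 2 (S : Subgroup G)) : PRankLE 2 2 G := fun A hc h2 => by
  have : Fact (Nat.Prime 2) := ⟨Nat.prime_two⟩
  obtain ⟨g, hg⟩ := Invol.exists_conj_le_sylow S (Q := A) fun x => ⟨1, Subtype.ext (h2 x x.2)⟩
  let f : A →* (S : Subgroup G) := ((MulAut.conj g).toMonoidHom.comp A.subtype).codRestrict _ fun x => hg x x.2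
  have hf : Function.Injective f := fun x y e => Subtype.ext ((MulAut.conj g).injective (congrArg Subtype.val e))
  rw [Nat.card_congr (MonoidHom.ofInjective hf).toEquiv]
  refine h _ ⟨⟨?_⟩⟩ ?_
  · rintro ⟨_, x, rfl⟩ ⟨_, y, rfl⟩
    exact Subtype.ext ((show Commute x y from hc.1.1 x y).map f)
  · rintro _ ⟨x, rfl⟩
    rw [← map_pow, show x ^ 2 = 1 from Subtype.ext (h2 x x.2), map_one]

theorem cn_conj (g x : G) : IsConj x (cn g x) := isConj_iff.2 ⟨g⁻¹, by rw [cn_def, inv_inv]⟩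

theorem H1 {z : (S : Subgroup G)} (zc : ∀ g, Commute g z) {v : G} (hv : IsConj z.1 v) {K : Subgroup G} (hK : IsPGroup 2 K)
    (hc : ∀ x ∈ K, Commute x v) : ∃ k, cn k v = z ∧ ∀ x ∈ K, cn k x ∈ (S : Subgroup G) := by
  have : Fact (Nat.Prime 2) := ⟨Nat.prime_two⟩
  obtain ⟨c, rfl⟩ := isConj_iff.1 hv
  have e : cn c (c * z * c⁻¹) = z := by rw [cn_def]; group
  obtain ⟨h, hh, h1⟩ := Invol.exists_conj_le_sylow_of_le (H := centralizer {z.1}) S
    (fun x hx => mem_centralizer_singleton_iff.2 (congrArg Subtype.val (zc ⟨x, hx⟩))) (hK.map (cn c)) (by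
      rintro _ ⟨x, hx, rfl⟩
      exact mem_centralizer_singleton_iff.2 (e ▸ (hc x hx).map (cn c)))
  refine ⟨c * h⁻¹, ?_, fun x hx => ?_⟩
  · rw [← cn_cn, e, cn_of (show Commute h z.1 from mem_centralizer_singleton_iff.1 hh).inv_left]
  · rw [← cn_cn, cn_def, inv_inv]
    exact h1 _ ⟨x, hx, rfl⟩

theorem mkf {u : (S : Subgroup G)} {k : G} (h : ∀ x ∈ (centralizer {u}).map (S : Subgroup G).subtype, cn k x ∈ (S : Subgroup G)) :
    ∃ f : centralizer {u} →* (S : Subgroup G), Function.Injective f ∧ ∀ x, (f x).1 = cn k x.1.1 :=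
  ⟨((cn k).comp ((S : Subgroup G).subtype.comp (centralizer {u}).subtype)).codRestrict _ fun x => h _ ⟨x, x.2, rfl⟩,
    fun _ _ e => Subtype.ext (Subtype.ext (cn_inj k (congrArg Subtype.val e))), fun _ => rfl⟩

theorem cen_u {u : (S : Subgroup G)} : ∀ x ∈ (centralizer {u}).map (S : Subgroup G).subtype, Commute x u.1 := by
  rintro _ ⟨x, hx, rfl⟩
  exact congrArg Subtype.val (mem_centralizer_singleton_iff.1 hx)

theorem S2.toS3 {u z t b : (S : Subgroup G)} (s : S2 u z t b) (hu : ¬ IsConj z.1 u.1) (hex : ∃ v : (S : Subgroup G), IsConj z.1 v.1 ∧ v ≠ z) :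
    S3 u z t b fun x => IsConj z.1 x.1 := by
  have pz : ∀ y : (S : Subgroup G), IsPGroup 2 (zpowers y.1) := fun y => S.isPGroup'.to_le (zpowers_le.2 y.2)
  have cz : ∀ {y v : G}, Commute y v → ∀ x ∈ zpowers y, Commute x v := by
    rintro y v c _ ⟨n, rfl⟩; exact c.zpow_left n
  have zi : ∀ x : (S : Subgroup G), IsConj z.1 x.1 → x * x = 1 := fun x h => by
    obtain ⟨c, e⟩ := isConj_iff.1 h
    refine Subtype.ext ?_
    change x.1 * x.1 = 1
    rw [← e, conj_mul, show z.1 * z.1 = 1 from congrArg Subtype.val s.zz]; simp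
  have z1 : ¬ IsConj z.1 1 := fun h => s.z1 (Subtype.ext (isConj_one_left.1 h))
  refine ⟨s, fun x g h => h.trans ((show (cn g x).1 = cn g.1 x.1 from cn_map (S : Subgroup G).subtype g x) ▸ cn_conj g.1 x.1), zi, fun x y hx hy c ne => ?_, z1, hu,
    fun v y hv ne c e => ?_, hex⟩
  · obtain ⟨k, h1, h2⟩ := H1 s.zc hx (pz y) (cz (c.symm.map (S : Subgroup G).subtype))
    have h3 := h2 _ (mem_zpowers _)
    obtain ⟨g, hg⟩ := s.fuse (x := ⟨_, h3⟩) (Subtype.ext (by
      change cn k y.1 * cn k y.1 = 1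
      rw [← map_mul, show y.1 * y.1 = 1 from congrArg Subtype.val (zi y hy), map_one]))
      (fun e => z1 (hy.trans ((show cn k y.1 = 1 from congrArg Subtype.val e) ▸ cn_conj k y.1)))
      fun e => ne (Subtype.ext (cn_inj k (h1.trans (congrArg Subtype.val e).symm)))
    have h4 : cn g.1 (cn k y.1) = cn k y.1 * z := (cn_map (S : Subgroup G).subtype g ⟨_, h3⟩).symm.trans (congrArg Subtype.val hg)
    refine ((hy.trans (cn_conj k _)).trans (cn_conj g.1 _)).trans (.symm ?_)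
    rw [h4, ← h1, ← map_mul, c.eq]
    exact cn_conj k _
  · obtain ⟨k, h1, h2⟩ := H1 s.zc hv (pz y) (cz (c.map (S : Subgroup G).subtype))
    have h3 : cn k y.1 * cn k y.1 = cn k z.1 := by rw [← map_mul, ← e]; rfl
    exact ⟨⟨_, h2 _ (mem_zpowers _)⟩, (show IsConj z.1 (cn k y.1 * cn k y.1) from h3 ▸ cn_conj k z.1),
      fun e => ne (Subtype.ext (cn_inj k (h1.trans ((congrArg Subtype.val e).symm.trans h3))))⟩

end Cfsg.Lib.NC
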